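import Mathlib
import Cfsg.Agent.PLocal.AmbSyl
import Cfsg.Agent.Solv.Coprime2

/-!
S3617, local theorem: definitions.  A datum `d = (a, R, Z, L)`: `R` a 2-group with `Φ(R) ≤ Z`, `Z`
central and elementary, `a` of odd prime order with `C_R(a) = Z`, `L = R C_L(a)`.
-/

set_option autoImplicit false

namespace Cfsg.Agent.Q2

open Subgroup Cfsg Cfsg.Agent.PLocal.Amb
open scoped commutatorElement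

variable {G : Type*} [Group G]

structure Dat (G : Type*) [Group G] where
  a : G
  R : Subgroup G
  Z : Subgroup G
  L : Subgroup G

def Dat.conj (g : G) (d : Dat G) : Dat G := ⟨g * d.a * g⁻¹, cj(g, d.R), cj(g, d.Z), cj(g, d.L)⟩

/-- the axioms on one datum that do not mention 2-elements of `L` -/
structure Lc0 (p : ℕ) (d : Dat G) : Prop where
  pp : p.Prime
  p2 : p ≠ 2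
  ord : orderOf d.a = p
  pg : IsPGroup 2 d.R
  ne : d.Z ≠ ⊥
  ZR : d.Z ≤ d.R
  Zc : d.Z ≤ 𝐂[d.R]
  Za : ∀ c ∈ d.Z, d.a * c = c * d.a
  Z2 : ∀ c ∈ d.Z, c * c = 1
  sq : ∀ x ∈ d.R, x * x ∈ d.Z
  fix : ∀ x ∈ d.R, d.a * x = x * d.a → x ∈ d.Z
  gen : ⁅d.R, zpowers d.a⁆ = d.R
  RL : d.R ≤ d.L
  aL : d.a ∈ d.L
  nR : d.L ≤ 𝐍[d.R]
  nZ : d.L ≤ 𝐍[d.Z]
  fac : ∀ x ∈ d.L, ∃ ρ ∈ d.R, ∃ u : G, d.a * u = u * d.a ∧ x = ρ * u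
  cent : ∀ c ∈ d.Z, c ≠ 1 → centralizer ({c} : Set G) ≤ d.L
  nrm : ∀ X : Subgroup G, IsPGroup 2 X → X ≠ ⊥ → d.R ≤ 𝐍[X] → d.a ∈ 𝐍[X] → 𝐍[X] ≤ d.L

/-- the axioms on one datum -/
structure Lc (p : ℕ) (d : Dat G) : Prop extends Lc0 p d where
  two : ∀ x ∈ d.L, (∃ k, x ^ 2 ^ k = 1) → x ∈ 𝐂[d.Z]

/-- the axioms on a conjugation invariant family -/
structure Fam (p : ℕ) (𝓕 : Set (Dat G)) : Prop where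
  inv : ∀ d ∈ 𝓕, ∀ g : G, d.conj g ∈ 𝓕
  loc : ∀ d ∈ 𝓕, Lc p d
  card : ∀ d ∈ 𝓕, ∀ e ∈ 𝓕, Nat.card d.Z = Nat.card e.Z
  ti : ∀ d ∈ 𝓕, ∀ e ∈ 𝓕, ∀ c ∈ d.Z, c ∈ e.Z → c ≠ 1 → d.R = e.R ∧ d.Z = e.Z ∧ d.L = e.L
  mx : ∀ d ∈ 𝓕, ∀ e ∈ 𝓕, d.R ≤ e.L → e.R ≤ d.L → d.Z = e.Z
  dec : ∀ d ∈ 𝓕, ∀ e ∈ 𝓕, d.Z ≠ e.Z → ∀ ρ ∈ d.R, ∀ u ∈ d.L, d.a * u = u * d.a → ρ * u ∈ e.Z →
    u * u = 1 → u ∈ d.Z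

/-- `W d τ = {ρ ∈ R | ⁅ρ, τ⁆ ∈ Z}` (a subgroup when `R` normalises `Z`). -/
def W (d : Dat G) (τ : G) : Subgroup G where
  carrier := {ρ | ρ ∈ d.R ⊓ 𝐍[d.Z] ∧ ⁅ρ, τ⁆ ∈ d.Z}
  one_mem' := ⟨one_mem _, by simp⟩
  mul_mem' := fun {x y} hx hy => ⟨mul_mem hx.1 hy.1, by
    rw [show ⁅x * y, τ⁆ = x * ⁅y, τ⁆ * x⁻¹ * ⁅x, τ⁆ by simp only [commutatorElement_def]; group]
    exact mul_mem (conj_mem_of_mem_normalizer hx.1.2 hy.2) hx.2⟩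
  inv_mem' := fun {x} hx => ⟨inv_mem hx.1, by
    rw [show ⁅x⁻¹, τ⁆ = x⁻¹ * ⁅x, τ⁆⁻¹ * x⁻¹⁻¹ by simp only [commutatorElement_def]; group]
    exact conj_mem_of_mem_normalizer (inv_mem hx.1.2) (inv_mem hx.2)⟩

theorem Lc0.mem_W {p : ℕ} {d : Dat G} (h : Lc0 p d) {τ ρ : G} :
    ρ ∈ W d τ ↔ ρ ∈ d.R ∧ ⁅ρ, τ⁆ ∈ d.Z :=
  ⟨fun k => ⟨k.1.1, k.2⟩, fun k => ⟨⟨k.1, h.nZ (h.RL k.1)⟩, k.2⟩⟩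

/-- `WW d e = {ρ ∈ R | ⁅ρ, e.Z⁆ ≤ Z}` -/
def WW (d e : Dat G) : Subgroup G := d.R ⊓ ⨅ z ∈ e.Z, W d z

theorem Lc0.mem_WW {p : ℕ} {d e : Dat G} (h : Lc0 p d) {ρ : G} :
    ρ ∈ WW d e ↔ ρ ∈ d.R ∧ ∀ z ∈ e.Z, ⁅ρ, z⁆ ∈ d.Z := by
  simp only [WW, mem_inf, mem_iInf, h.mem_W]
  exact ⟨fun k => ⟨k.1, fun z hz => (k.2 z hz).2⟩, fun k => ⟨k.1, fun z hz => ⟨k.1, k.2 z hz⟩⟩⟩

/-- adjacent data: `Z ≠ Z'` commute -/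
def Adj (d e : Dat G) : Prop := d.Z ≠ e.Z ∧ e.Z ≤ 𝐂[d.Z]

theorem Adj.symm {d e : Dat G} (h : Adj d e) : Adj e d := ⟨h.1.symm, le_centralizer_iff.1 h.2⟩

/-- case α -/
def Alpha (d e : Dat G) : Prop := e.Z ≤ d.R ∧ ∀ i : ℕ, cj(d.a ^ i, e.Z) ≤ 𝐂[e.Z]

/-- every element of `z Z` is conjugate to `z` under `WW d e` -/
def Full (d e : Dat G) : Prop := ∀ z ∈ e.Z, z ≠ 1 → ∀ c ∈ d.Z, ∃ ρ ∈ WW d e, ⁅ρ, z⁆ = c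

/-- case β -/
def Beta (d e : Dat G) : Prop :=
  Full d e ∧ (e.Z ≤ d.R → ∃ i : ℕ, ∀ z ∈ e.Z, z ≠ 1 → ∀ c ∈ d.Z, ∃ ρ ∈ cj(d.a ^ i, e.Z), ⁅ρ, z⁆ = c)

end Cfsg.Agent.Q2
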