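import Mathlib
import Cfsg.Agent.Q2.BDefs

/-!
S3617: invariant Sylow subgroups and blocks in the minimal counterexample.
-/

set_option autoImplicit false
set_option linter.unusedSectionVars false
set_option linter.unusedVariables false

namespace Cfsg.Agent.Q2

open Subgroup Cfsg Cfsg.Agent.PLocal.Amb Cfsg.Agent.FrD
open scoped commutatorElement

variable {G : Type*} [Group G] [Finite G] {p q : ℕ} {D : Set (Subgroup G)}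

namespace Ce

variable (h : Ce p q D) {A B H M M' X Y S S' : Subgroup G}
include h

/-- PROOF.  `cj(x, A) ≤ dcl D H` is a point, `= cj(ρ, A)` with `ρ ∈ rad D H` (`exists_cj` for `dcl D H`
or `H`), `ρ⁻¹ x ∈ 𝐍[A] ≤ 𝐂[A]` (`nc`). -/
theorem fac (hH : H ≠ ⊤) (hA : A ∈ D) (hAH : A ≤ H) {x : G} (hx : x ∈ 𝐍[dcl D H]) :
    ∃ ρ ∈ rad D H, ∃ u ∈ 𝐂[A], x = ρ * u := by
  obtain ⟨ρ, hρ, e⟩ := h.exists_cj (h.sm H hH) hA (h.inv A hA x) hAH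
    ((cj_le_of_mem_normalizer (le_dcl hA hAH) hx).trans (dcl_le H))
  refine ⟨ρ, hρ, ρ⁻¹ * x, h.nc A hA ?_, by group⟩
  rw [← cj_eq_iff, cj_mul, e, cj_inv_cj]

/-- PROOF.  `y = ρ u` (`fac`), `a y a⁻¹ = (a ρ a⁻¹) ρ⁻¹ y`. -/
theorem le_normalizer_of_rad (hH : H ≠ ⊤) (hA : A ∈ D) (hAH : A ≤ H) (h1 : rad D H ≤ Y)
    (h2 : Y ≤ 𝐍[dcl D H]) : A ≤ 𝐍[Y] := by
  refine le_normalizer_iff_cj.2 fun a ha => cj_le_iff_forall.2 fun y hy => ?_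
  obtain ⟨ρ, hρ, u, hu, rfl⟩ := h.fac hH hA hAH (h2 hy)
  have e : a * (ρ * u) * a⁻¹ = a * ρ * a⁻¹ * ρ⁻¹ * (ρ * u) := by
    calc a * (ρ * u) * a⁻¹ = a * ρ * a⁻¹ * (a * u) * a⁻¹ := by group
      _ = _ := by rw [mem_centralizer_iff.1 hu a ha]; group
  rw [e]
  exact mul_mem (h1 (mul_mem (conj_mem_of_mem_normalizer (h.le_normalizer_rad H (hAH ha)) hρ)
    (inv_mem hρ))) hy

/-- PROOF.  `K = 𝐍[X] ≠ ⊤` contains `A`; `X ⊔ rad D K` is an `A`-invariant `q`-group, so `rad D K ≤ X`.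
A `q`-group `P` with `X ≤ P ≤ K` contains `rad D K` and normalises `dcl D K` (`le_normalizer_dcl`), so
is `A`-invariant (`le_normalizer_of_rad`) and equals `X`.  For a `q`-group `P ≥ X` apply this to
`P ⊓ K` and use `eq_of_inf_normalizer_le`. -/
theorem isSyl_of_max (hA : A ∈ D) (hX : IsPGroup q X) (h1 : X ≠ ⊥) (hn : A ≤ 𝐍[X])
    (hm : ∀ P : Subgroup G, IsPGroup q P → A ≤ 𝐍[P] → X ≤ P → P ≤ X) : IsSyl q X ⊤ := by
  have := Fact.mk h.qp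
  have hK := h.normalizer_ne_top hX h1
  have r1 : rad D 𝐍[X] ≤ X := le_sup_left.trans (hm _ (isPGroup_sup (h.rad_pg hK) hX (rad_le _))
    (le_normalizer_sup (hn.trans (h.le_normalizer_rad _)) hn) le_sup_right)
  refine ⟨le_top, hX, fun P hP hXP _ => (eq_of_inf_normalizer_le hP hXP ?_).ge⟩
  have k : X ≤ P ⊓ 𝐍[X] := le_inf hXP le_normalizer
  exact hm _ hP.to_inf_left (h.le_normalizer_of_rad hK hA hn (r1.trans k)
    (inf_le_right.trans (h.le_normalizer_dcl _))) k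

/-- PROOF.  A maximal `A`-invariant `q`-subgroup above `X`; if `X = ⊥` start from
`rad D (A ⊔ B) ≠ ⊥` for a point `B ≠ A` (`h.two`, `line_eq`). -/
theorem exists_syl (hA : A ∈ D) (hX : IsPGroup q X) (hn : A ≤ 𝐍[X]) :
    ∃ S : Subgroup G, IsSyl q S ⊤ ∧ S ≠ ⊥ ∧ A ≤ 𝐍[S] ∧ X ≤ S := by
  obtain ⟨X', a1, a2, a3, a4⟩ : ∃ X' : Subgroup G, IsPGroup q X' ∧ A ≤ 𝐍[X'] ∧ X' ≠ ⊥ ∧ X ≤ X' := by
    by_cases h0 : X = ⊥
    · obtain ⟨B, hB, hne⟩ : ∃ B ∈ D, A ≠ B := by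
        obtain ⟨B, hB, B', hB', ne⟩ := h.two
        by_cases e : A = B
        · exact ⟨B', hB', e ▸ ne⟩
        · exact ⟨B, hB, e⟩
      refine ⟨rad D (A ⊔ B), h.rad_pg (h.line_ne_top hA hB),
        le_sup_left.trans (h.le_normalizer_rad _), fun e => hne ?_, h0 ▸ bot_le⟩
      have := (h.line_eq hA hB).2
      rw [e, bot_sup_eq] at this
      exact h.eq_of_isPGroup hA hB (h.pg hA) le_rfl (le_sup_right.trans this.ge)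
    · exact ⟨X, hX, hn, h0, le_rfl⟩
  obtain ⟨S, hS, hmax⟩ := Set.Finite.exists_le_maximal
    (s := {K : Subgroup G | IsPGroup q K ∧ A ≤ 𝐍[K]}) (Set.toFinite _) (a := X') ⟨a1, a2⟩
  have h1 : S ≠ ⊥ := fun e => a3 (le_bot_iff.1 (e ▸ hS))
  exact ⟨S, h.isSyl_of_max hA hmax.1.1 h1 hmax.1.2 fun P hP hn hle => hmax.2 (y := P) ⟨hP, hn⟩ hle,
    h1, hmax.1.2, a4.trans hS⟩

/-- PROOF.  `S' = cj(g, S)`; `A` and `cj(g⁻¹, A)` lie in `K = 𝐍[S] ≠ ⊤`, so `cj(g⁻¹, A) = cj(x, A)` with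
`x ∈ rad D K ≤ K` (`exists_cj`); `c = g x ∈ 𝐍[A] ≤ 𝐂[A]`, `cj(c, S) = S'`. -/
theorem syl_conj (hA : A ∈ D) (hS : IsSyl q S ⊤) (hS' : IsSyl q S' ⊤) (h1 : S ≠ ⊥) (hn : A ≤ 𝐍[S])
    (hn' : A ≤ 𝐍[S']) : ∃ c ∈ 𝐂[A], S' = cj(c, S) := by
  have := Fact.mk h.qp
  obtain ⟨g, -, rfl⟩ := hS'.exists_cj_eq hS
  rw [normalizer_cj, le_cj_iff] at hn'
  obtain ⟨x, hx, e⟩ := h.exists_cj (h.sm _ (h.normalizer_ne_top hS.2 h1)) hA (h.inv A hA g⁻¹) hn hn'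
  refine ⟨g * x, h.nc A hA ?_, ?_⟩
  · rw [← cj_eq_iff, cj_mul, ← e, cj_cj_inv]
  · rw [cj_mul, cj_of_mem_normalizer (rad_le _ hx)]

/-- PROOF.  `S ≥ rad D M` from `exists_syl`; `H = S ⊔ A ≠ ⊤` (`sup_ne_top`) contains `M` (`blk_eq`), so
`dcl D H = M` (`hM.max`, `hM.eq`). -/
theorem exists_syl_blk (hM : Blk D M) (hA : A ∈ D) (hAM : A ≤ M) :
    ∃ S : Subgroup G, IsSyl q S ⊤ ∧ S ≠ ⊥ ∧ A ≤ 𝐍[S] ∧ dcl D (S ⊔ A) = M := by
  obtain ⟨S, h1, h2, h3, h4⟩ := h.exists_syl hA (h.rad_pg hM.ne_top) (hAM.trans (h.le_normalizer_rad M))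
  have k : M ≤ S ⊔ A := (h.blk_eq hM hA hAM).le.trans (sup_le_sup_right h4 A)
  exact ⟨S, h1, h2, h3, le_antisymm (hM.max _ (h.sup_ne_top hA h1.2 h3) k)
    (hM.eq.ge.trans (dcl_mono k))⟩

/-- PROOF.  `exists_syl_blk`, `syl_conj`, `dcl_cj`, `cj_sup`. -/
theorem blk_conj (hM : Blk D M) (hM' : Blk D M') (hA : A ∈ D) (hAM : A ≤ M) (hAM' : A ≤ M') :
    ∃ c ∈ 𝐂[A], M' = cj(c, M) := by
  obtain ⟨S, h1, h2, h3, rfl⟩ := h.exists_syl_blk hM hA hAM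
  obtain ⟨S', h1', -, h3', rfl⟩ := h.exists_syl_blk hM' hA hAM'
  obtain ⟨c, hc, rfl⟩ := h.syl_conj hA h1 h1' h2 h3 h3'
  refine ⟨c, hc, ?_⟩
  rw [← h.dcl_cj, cj_sup, cj_of_mem_normalizer (centralizer_le_normalizer' A hc)]

/-- every two points lie in a block (`exists_blk`, `line_ne_top`) -/
theorem exists_blk_line (hA : A ∈ D) (hB : B ∈ D) : ∃ M, Blk D M ∧ A ≤ M ∧ B ≤ M := by
  obtain ⟨M, hM, hle⟩ := exists_blk (D := D) (h.line_ne_top hA hB)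
  rw [dcl_sup hA hB] at hle
  exact ⟨M, hM, le_sup_left.trans hle, le_sup_right.trans hle⟩

/-- PROOF.  `X ≤ S` (`exists_syl`), a block `M₀ ∋ A` with `S₀` (`exists_syl_blk`), `S = cj(c, S₀)`,
`M = cj(c, M₀) = dcl D (S ⊔ A)`, `le_normalizer_dcl`. -/
theorem exists_blk_norm (hA : A ∈ D) (hX : IsPGroup q X) (hn : A ≤ 𝐍[X]) :
    ∃ M, Blk D M ∧ A ≤ M ∧ X ≤ 𝐍[M] := by
  obtain ⟨S, h1, h2, h3, h4⟩ := h.exists_syl hA hX hn
  obtain ⟨M₀, hM, hAM, -⟩ := h.exists_blk_line hA hA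
  obtain ⟨S₀, k1, k2, k3, rfl⟩ := h.exists_syl_blk hM hA hAM
  obtain ⟨c, hc, rfl⟩ := h.syl_conj hA k1 h1 k2 k3 h3
  have e : cj(c, dcl D (S₀ ⊔ A)) = dcl D (cj(c, S₀) ⊔ A) := by
    rw [← h.dcl_cj, cj_sup, cj_of_mem_normalizer (centralizer_le_normalizer' A hc)]
  refine ⟨_, h.blk_cj hM c, ?_, ?_⟩
  · rw [e]; exact le_dcl hA le_sup_right
  · rw [e]; exact (h4.trans le_sup_left).trans (h.le_normalizer_dcl _)

/-- PROOF.  Else `cj(c, M) = M` for `c ∈ 𝐂[A]`, so `M` is the only block on `A` (`blk_conj`), all points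
lie in `M` (`exists_blk_line`), `⊤ = sSup D ≤ M`. -/
theorem not_cent_le (hM : Blk D M) (hA : A ∈ D) (hAM : A ≤ M) : ¬ 𝐂[A] ≤ 𝐍[M] := fun k => by
  refine hM.ne_top (top_le_iff.1 (h.gen.ge.trans (sSup_le fun B hB => ?_)))
  obtain ⟨M', hM', h1, h2⟩ := h.exists_blk_line hA hB
  obtain ⟨c, hc, rfl⟩ := h.blk_conj hM hM' hA hAM h1
  rwa [cj_of_mem_normalizer (k hc)] at h2

/-- PROOF.  `le_blk` with `H = M'` (`hM'.eq`), `Blk.eq_of_le`. -/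
theorem blk_eq_of_norm (hM : Blk D M) (hM' : Blk D M') (hA : A ∈ D) (hAM : A ≤ M) (hAM' : A ≤ M')
    {c : G} (hc : c ∈ rad D M ⊓ 𝐂[A]) (h1 : c ≠ 1) (hn : c ∈ 𝐍[M']) : M' = M :=
  hM'.eq_of_le hM (hM'.eq.ge.trans (h.le_blk hM hA hAM hc h1 hM'.ne_top hAM' (by rwa [hM'.eq])))

/-- A `q`-subgroup of `C(A)` meeting `Z` normalises `M` (`exists_blk_norm`, `blk_eq_of_norm`). -/
theorem le_normalizer_of_mem (hM : Blk D M) (hA : A ∈ D) (hAM : A ≤ M) (hX : IsPGroup q X)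
    (hn : A ≤ 𝐍[X]) {c : G} (hc : c ∈ rad D M ⊓ 𝐂[A]) (h1 : c ≠ 1) (hcX : c ∈ X) : X ≤ 𝐍[M] := by
  obtain ⟨M', hM', k1, k2⟩ := h.exists_blk_norm hA hX hn
  rwa [h.blk_eq_of_norm hM hM' hA hAM k1 hc h1 (k2 hcX)] at k2

/-- An involution normalises a block on any point.  PROOF.  `J = B ⊔ cj(c, B) = dcl D J` (`dcl_sup`) is
normalised by `c`; `X = rad D J ⊔ zpowers c` is a `q`-group normalised by `B`
(`le_normalizer_of_rad`), `exists_blk_norm`. -/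
theorem exists_blk_inv (hq : q = 2) (hB : B ∈ D) {c : G} (hc : c * c = 1) :
    ∃ M, Blk D M ∧ B ≤ M ∧ c ∈ 𝐍[M] := by
  have hB' := h.inv B hB c
  have hJ := h.line_ne_top hB hB'
  have n1 : c ∈ 𝐍[B ⊔ cj(c, B)] := by
    rw [← cj_eq_iff, cj_sup, ← cj_mul, hc, cj_one, sup_comm]
  have pc : IsPGroup q (zpowers c) := isPGroup_zpowers ⟨1, by rw [hq, pow_one, pow_two, hc]⟩
  obtain ⟨M, hM, k1, k2⟩ := h.exists_blk_norm hB (isPGroup_sup pc (h.rad_pg hJ)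
    (zpowers_le.2 (h.normalizer_le_rad _ n1))) (h.le_normalizer_of_rad hJ hB le_sup_left le_sup_right
      (sup_le (zpowers_le.2 (h.normalizer_le_dcl _ n1)) ((rad_le _).trans (h.le_normalizer_dcl _))))
  exact ⟨M, hM, k1, k2 (mem_sup_left (mem_zpowers c))⟩

end Ce

end Cfsg.Agent.Q2
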