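import Mathlib
import Cfsg.Agent.Q2.LocA

/-!
S3617, local theorem B: adjacent data.  For `d` write `a, R, Z, L`; lemmas of `LocA` are used through
`(h.loc d hd).toLc0`.  Elements of `R` are 2-elements (`isPGroup_iff`).
-/

set_option autoImplicit false
set_option linter.unusedSectionVars false
set_option linter.unusedVariables false

namespace Cfsg.Agent.Q2

open Subgroup Cfsg Cfsg.Agent.PLocal.Amb
open scoped commutatorElement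

variable {G : Type*} [Group G] [Finite G] {p : ℕ} {𝓕 : Set (Dat G)} {d e : Dat G}

namespace Fam

variable (h : Fam p 𝓕) (hd : d ∈ 𝓕) {z c τ ρ : G}
include h hd

/-- PROOF.  `τ ∈ C(c) ≤ L` (`cent`), `two`. -/
theorem cent_of (hc : c ∈ d.Z) (h1 : c ≠ 1) (h2 : ∃ k, τ ^ 2 ^ k = 1) (hτ : τ * c = c * τ) :
    τ ∈ d.L ∧ τ ∈ 𝐂[d.Z] :=
  have := (h.loc d hd).cent c hc h1 (mem_centralizer_singleton_iff.2 hτ)
  ⟨this, (h.loc d hd).two τ this h2⟩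

theorem exZ : ∃ c ∈ d.Z, c ≠ 1 := by
  by_contra! k
  exact (h.loc d hd).ne ((eq_bot_iff_forall _).2 k)

theorem le_L_of {X : Subgroup G} (hX : X ≤ 𝐂[d.Z]) : X ≤ d.L := fun x hx =>
  let ⟨c, hc, h1⟩ := h.exZ hd
  (h.loc d hd).cent c hc h1 (mem_centralizer_singleton_iff.2 (hX hx c hc).symm)

variable (he : e ∈ 𝓕)
include he

/-- the same for `ρ ∈ R` and `z ∈ e.Z` -/
theorem cent_of_R (hρ : ρ ∈ d.R) (hz : z ∈ e.Z) (h1 : z ≠ 1) (hc : ⁅ρ, z⁆ = 1) : ρ ∈ 𝐂[e.Z] :=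
  (h.cent_of he hz h1 (isPGroup_iff.1 (h.loc d hd).pg ρ hρ) (commutatorElement_eq_one_iff_mul_comm.1 hc)).2

/-- PROOF.  `z ∈ 𝐂[Z]` (`two`, `z * z = 1`); each `c ∈ Z` commutes with `z`, `cent_of`. -/
theorem adj_of (hne : d.Z ≠ e.Z) (hz : z ∈ e.Z) (h1 : z ≠ 1) (hL : z ∈ d.L) : Adj d e :=
  ⟨hne, le_centralizer_iff.1 fun c hc => (h.cent_of he hz h1 ⟨1, (sq c).trans ((h.loc d hd).Z2 c hc)⟩
    ((h.loc d hd).two z hL ⟨1, (sq z).trans ((h.loc e he).Z2 z hz)⟩ c hc)).2⟩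

/-- `h.ti` -/
theorem disj (ha : Adj d e) (hc : c ∈ d.Z) (hc' : c ∈ e.Z) : c = 1 :=
  by_contra fun k => ha.1 (h.ti d hd e he c hc hc' k).2.1

/-- PROOF.  Take `1 ≠ c ∈ Z`; `e.Z ≤ C(c) ≤ L`. -/
theorem le_L (ha : Adj d e) : e.Z ≤ d.L := h.le_L_of hd ha.2

/-- PROOF.  `WW` is the intersection of `R` and the `W d z`, `W_norm`, `le_L`. -/
theorem WW_norm (ha : Adj d e) : d.a ∈ 𝐍[WW d e] := by
  have L := (h.loc d hd).toLc0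
  refine mem_normalizer_of_cj_le (cj_le_iff_forall.2 fun x hx => ?_)
  simp only [WW, mem_inf, mem_iInf] at hx ⊢
  exact ⟨conj_mem_of_mem_normalizer (L.nR L.aL) hx.1, fun z hz =>
    conj_mem_of_mem_normalizer (L.W_norm (h.le_L hd he ha hz)) (hx.2 z hz)⟩

theorem mem_R (ha : Adj d e) (hz : z ∈ e.Z) {B : Subgroup G} (h1 : B ≤ W d z) (h2 : d.a ∈ 𝐍[B])
    (h3 : ∀ x ∈ B, ⁅x, z⁆ = 1) (h4 : ∀ x ∈ W d z, ⁅x, z⁆ = 1 → x ∈ B) : z ∈ d.R := by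
  have L := (h.loc d hd).toLc0
  obtain ⟨ρ, hρ, u, hu, au, uZ, rfl⟩ := L.dec1 (h.le_L hd he ha hz) (ha.2 hz)
  obtain ⟨-, e1, e2, e3⟩ := L.dec2 hρ hu au uZ ((h.loc e he).Z2 _ hz)
  have := L.ab (B := B ⊓ 𝐂[B]) (inf_le_left.trans (h1.trans (L.W_le _)))
    (zpowers_le.1 (le_normalizer_inf (zpowers_le.2 h2) (le_normalizer_centralizer (zpowers_le.2 h2))))
    (inf_le_right.trans (centralizer_anti inf_le_left))
    ⟨h4 ρ e2 ((e3 ρ e2).trans (commutatorElement_self ρ)), fun x hx =>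
      commutatorElement_eq_one_iff_mul_comm.1 ((e3 x (h1 hx)).symm.trans (h3 x hx))⟩
  exact mul_mem hρ (L.ZR (h.dec d hd e he ha.1 ρ hρ u hu au hz (e1.trans this)))

/-- PROOF.  `z = ρ u` (`dec1`, `dec2`); `ρ ∈ B = W ⊓ 𝐂[W]`, `W = W d z` (`⁅x, ρ⁆ = ⁅x, z⁆ = 1`), `B` is
`a`-invariant and commutative, so `ρ ρ = 1` (`ab`), `u u = 1`, `u ∈ Z` (`h.dec`), `z ∈ R`, `W = R`
(`comm_mem`), `cent_of_R`. -/
theorem cent_of_W (ha : Adj d e) (hz : z ∈ e.Z) (h1 : z ≠ 1)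
    (hW : W d z ≤ centralizer ({z} : Set G)) : d.R ≤ 𝐂[e.Z] := fun ρ hρ => by
  have L := (h.loc d hd).toLc0
  have k : ∀ x ∈ W d z, ⁅x, z⁆ = 1 := fun x hx =>
    commutatorElement_eq_one_iff_mul_comm.2 (mem_centralizer_singleton_iff.1 (hW hx))
  exact h.cent_of_R hd he hρ hz h1 (k ρ (L.mem_W.2 ⟨hρ, L.comm_mem hρ
    (h.mem_R hd he ha hz le_rfl (L.W_norm (h.le_L hd he ha hz)) k fun _ a _ => a)⟩))

/-- PROOF.  Suppose `R ≤ 𝐂[e.Z]`, so `R ≤ e.L`.  If `e.R ≤ 𝐂[Z]` then `e.R ≤ L` and `h.mx` gives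
`Z = e.Z`.  Else take `1 ≠ c ∈ Z`; by `cent_of_W` for `(e, d)` there is `g ∈ W e c` with
`z' = ⁅g, c⁆ ≠ 1`, `z' ∈ e.Z`, `g c g⁻¹ = z' c`.  `d' = d.conj g`: `d'.R = cj(g, R)` centralises `e.Z`
(`g ∈ e.R ≤ 𝐂[e.Z]`) and `z' c ∈ d'.Z`, so it centralises `c` and lies in `L`; `R` centralises
`z' c ≠ 1`, so `R ≤ d'.L`.  `h.mx` gives `Z = d'.Z ∋ z' c`, so `z' ∈ Z`, `disj`. -/
theorem not_cent (ha : Adj d e) : ¬ d.R ≤ 𝐂[e.Z] := fun hR => by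
  by_cases k : e.R ≤ 𝐂[d.Z]
  · exact ha.1 (h.mx d hd e he (h.le_L_of he hR) (h.le_L_of hd k))
  obtain ⟨c, hc, c1⟩ := h.exZ hd
  obtain ⟨g, hg, gc⟩ := SetLike.not_le_iff_exists.1 fun k' => k (h.cent_of_W he hd ha.symm hc c1 k')
  obtain ⟨gR, hz⟩ := (h.loc e he).mem_W.1 hg
  have hd' := h.inv d hd g
  have m : g * c * g⁻¹ ∈ (d.conj g).Z := conj_mem_cj g hc
  have e1 : g * c * g⁻¹ = ⁅g, c⁆ * c := by rw [commutatorElement_def, inv_mul_cancel_right]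
  have e2 := h.mx d hd _ hd' (fun ρ hρ => (h.loc _ hd').cent _ m (by simpa using c1)
      (mem_centralizer_singleton_iff.2 (e1 ▸ (Commute.mul_right (hR hρ _ hz).symm ((h.loc d hd).Zc hc ρ hρ)))))
    fun x hx => (h.loc d hd).cent c hc c1 (mem_centralizer_singleton_iff.2 (by
      have a : Commute x ⁅g, c⁆ := (cj_le_of_mem hR (le_centralizer_iff.1 (h.loc e he).Zc gR) hx _ hz).symm
      have b : Commute x (⁅g, c⁆ * c) := e1 ▸ (h.loc _ hd').Zc m x hx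
      exact inv_mul_cancel_left ⁅g, c⁆ c ▸ a.inv_right.mul_right b))
  exact gc (mem_centralizer_singleton_iff.2 (commutatorElement_eq_one_iff_mul_comm.1
    (h.disj hd he ha (mul_mem (e2 ▸ m) (inv_mem hc)) hz)))

/-- PROOF.  Else `WW ≤ 𝐂[e.Z]`.  For `1 ≠ z = ρ u ∈ e.Z`: `ρ` commutes with `z`, so `ρ ∈ 𝐂[e.Z]`
(`cent_of_R`), `ρ ∈ WW`; for `x ∈ WW ≤ W d z`, `⁅x, ρ⁆ = ⁅x, z⁆ = 1`.  `ab` with `WW ⊓ 𝐂[WW]` gives
`ρ ρ = 1`, so `u ∈ Z`, `z ∈ R`.  So `e.Z ≤ R`, `WW = R` (`comm_mem`), against `not_cent`. -/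
theorem exists_WW (ha : Adj d e) : ∃ ρ ∈ WW d e, ρ ∉ 𝐂[e.Z] := by
  by_contra! k
  have L := (h.loc d hd).toLc0
  refine h.not_cent hd he ha fun ρ hρ => k ρ (L.mem_WW.2 ⟨hρ, fun z hz => L.comm_mem hρ ?_⟩)
  by_cases h1 : z = 1
  · exact h1 ▸ one_mem _
  exact h.mem_R hd he ha hz (fun x hx => L.mem_W.2 ((L.mem_WW.1 hx).imp_right (· z hz))) (h.WW_norm hd he ha)
    (fun x hx => commutatorElement_eq_one_iff_mul_comm.2 (k x hx z hz).symm) fun x hx c =>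
      L.mem_WW.2 ⟨L.W_le _ hx, fun y hy => by
        rw [commutatorElement_eq_one_iff_mul_comm.2 (h.cent_of_R hd he (L.W_le _ hx) hz h1 c y hy).symm]
        exact one_mem _⟩

/-- PROOF.  Suppose not.  Take `1 ≠ c ∈ Z`, `c = σ v` in `e` (`dec1`, `dec2`; `c ∈ e.L` by `le_L`).  If
`v v = 1` then `v ∈ e.Z` (`h.dec`), `c ∈ e.R`.  So `z₀ = σ σ = v v ≠ 1` lies in `e.Z`.  `σ` commutes
with `c`, so `σ ∈ L ⊓ 𝐂[Z]` (`cent_of`), `σ = ρ₃ u₃` (`dec1` in `d`).  Take `ρ₀` from `exists_WW`,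
`c' = ⁅ρ₀, z₀⁆ ∈ Z`, `c' ≠ 1` (`cent_of_R`), `x = σ⁻¹ (ρ₀ σ ρ₀⁻¹) ∈ R`.
(1) `ρ₀ σ ρ₀⁻¹` commutes with `ρ₀ z₀ ρ₀⁻¹ = c' z₀` and with `c'`, so with `z₀`; so
`x ∈ C(z₀) ≤ e.L ≤ 𝐍[e.R]`.
(2) `x x = 1`: `z₀ = ρ₃ (u₃ ρ₃ u₃⁻¹) (u₃ u₃)`, so `ρ₀ ∈ W d z₀ = W d (u₃ u₃)` (`W_mul`) commutes with
`u₃ u₃` (`W_cent`); `x' = u₃⁻¹ (ρ₀ u₃ ρ₀⁻¹)` has `x' x' = 1` (`sq_one`), and `x = ζ x'` with
`ζ = ρ₃⁻¹ ⁅ρ₀, ρ₃⁆ ρ₃ ∈ Z` (`u₃` centralises `Z`).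
(3) `(σ x) (σ x) = ρ₀ z₀ ρ₀⁻¹ = z₀ c'`, so `c' = (σ⁻¹ x σ) x = σ⁻¹ (x σ x⁻¹) ∈ e.R`. -/
theorem exists_mem (ha : Adj d e) : ∃ c ∈ d.Z, c ≠ 1 ∧ c ∈ e.R := by
  by_contra! k
  have L := (h.loc d hd).toLc0
  have E := (h.loc e he).toLc0
  obtain ⟨c, hc, c1⟩ := h.exZ hd
  obtain ⟨σ, hσ, v, hv, av, vZ, rfl⟩ := E.dec1 (h.le_L he hd ha.symm hc) (ha.symm.2 hc)
  obtain ⟨e0, e1, -⟩ := E.dec2 hσ hv av vZ (L.Z2 _ hc)
  have z1 : σ * σ ≠ 1 := fun z => k _ hc c1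
    (mul_mem hσ (E.ZR (h.dec e he d hd ha.1.symm σ hσ v hv av hc (e1.trans z))))
  have hz := E.sq σ hσ
  obtain ⟨σL, σZ⟩ := h.cent_of hd hc c1 (isPGroup_iff.1 E.pg σ hσ) (by rw [mul_assoc, ← e0])
  obtain ⟨ρ, hρ, u, hu, au, uZ, e2⟩ := L.dec1 σL σZ
  obtain ⟨r, hr, rZ⟩ := h.exists_WW hd he ha
  obtain ⟨rR, hr'⟩ := L.mem_WW.1 hr
  have rC := le_centralizer_iff.1 L.Zc rR
  have a1 : Commute (r * σ * r⁻¹) ⁅r, σ * σ⁆ :=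
    (mul_mem (mul_mem rC σZ) (inv_mem rC) _ (hr' _ hz)).symm
  have a2 : ⁅r, σ * σ⁆ * (σ * σ) = r * σ * r⁻¹ * (r * σ * r⁻¹) := by
    simp only [commutatorElement_def]; group
  have a3 : σ⁻¹ * (r * σ * r⁻¹) ∈ 𝐍[e.R] := E.nR (mul_mem (inv_mem (E.RL hσ))
    (E.cent _ hz z1 (mem_centralizer_singleton_iff.2 (inv_mul_cancel_left ⁅r, σ * σ⁆ (σ * σ) ▸
      a1.inv_right.mul_right (a2 ▸ (Commute.refl _).mul_right (Commute.refl _))))))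
  have b1 : r ∈ W d (u * u) := by
    rw [← L.W_mul (mul_mem hρ (conj_mem_of_mem_normalizer (L.nR hu) hρ)),
      show ρ * (u * ρ * u⁻¹) * (u * u) = σ * σ by rw [e2]; group]
    exact L.mem_W.2 ⟨rR, hr' _ hz⟩
  have b2 := L.sq_one rR hu au uZ (mem_centralizer_singleton_iff.1 (L.W_cent (mul_mem hu hu)
    (Commute.mul_right au au) (mul_mem uZ uZ) b1))
  have hζ := L.comm_mem (inv_mem hρ) rR
  have b3 : σ⁻¹ * (r * σ * r⁻¹) = ⁅ρ⁻¹, r⁆ * (u⁻¹ * (r * u * r⁻¹)) := by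
    rw [← mul_assoc ⁅ρ⁻¹, r⁆, inv_mem uZ _ hζ, e2]
    simp only [commutatorElement_def]; group
  have b4 : (σ⁻¹ * (r * σ * r⁻¹))⁻¹ = σ⁻¹ * (r * σ * r⁻¹) := inv_eq_of_mul_eq_one_right (by
    rw [b3, Commute.mul_mul_mul_comm (mul_mem (inv_mem uZ) (mul_mem (mul_mem rC uZ) (inv_mem rC)) _ hζ).symm,
      b2, L.Z2 _ hζ, mul_one])
  refine k _ (hr' _ hz) (fun c => rZ (h.cent_of_R hd he rR hz z1 c)) ?_
  have := mul_mem (mul_mem hσ (conj_mem_of_mem_normalizer a3 hσ)) (inv_mem (mul_mem hσ hσ))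
  rw [b4] at this
  convert this using 1
  simp only [commutatorElement_def]; group

end Fam

end Cfsg.Agent.Q2
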