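import Mathlib
import Cfsg.Agent.Q2.LocB

/-!
S3617, local theorem D: case β is impossible.  `E = Z ⊔ e.Z` is elementary abelian, its elements are the
`c z`, `c ∈ Z`, `z ∈ e.Z`.
-/

set_option autoImplicit false
set_option linter.unusedSectionVars false
set_option linter.unusedVariables false

namespace Cfsg.Agent.Q2

open Subgroup Cfsg Cfsg.Agent.PLocal.Amb
open scoped commutatorElement

variable {G : Type*} [Group G] [Finite G] {p : ℕ} {𝓕 : Set (Dat G)} {d e : Dat G}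

namespace Fam

variable (h : Fam p 𝓕) (hd : d ∈ 𝓕) (he : e ∈ 𝓕) (ha : Adj d e)
include h hd he ha

omit he ha in
theorem locd_ex : ∃ c ∈ d.Z, c ≠ 1 := d.Z.bot_or_exists_ne_one.resolve_left (h.loc d hd).ne

omit he ha in
theorem locd_norm {ρ : G} (hρ : ρ ∈ WW d e) : ρ ∈ 𝐍[d.Z ⊔ e.Z] := by
  have l := (h.loc d hd).toLc0
  rw [l.mem_WW] at hρ
  refine mem_normalizer_of_cj_le ?_
  rw [cj_sup, cj_of_mem_normalizer (l.nZ (l.RL hρ.1))]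
  refine sup_le le_sup_left (cj_le_iff_forall.2 fun z hz => ?_)
  rw [show ρ * z * ρ⁻¹ = ⁅ρ, z⁆ * z by rw [commutatorElement_def]; group]
  exact mul_mem (mem_sup_left (hρ.2 z hz)) (mem_sup_right hz)

omit he ha in
theorem locd_cm {ρ c z : G} (hρ : ρ ∈ WW d e) (hc : c ∈ d.Z) (hz : z ∈ e.Z) : ⁅ρ, c * z⁆ = ⁅ρ, z⁆ := by
  have l := (h.loc d hd).toLc0
  rw [l.mem_WW] at hρ
  rw [show ⁅ρ, c * z⁆ = ρ * c * ρ⁻¹ * ⁅ρ, z⁆ * c⁻¹ by simp only [commutatorElement_def]; group,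
    l.Zc hc ρ hρ.1, mul_inv_cancel_right, ← l.Zc hc _ (l.ZR (hρ.2 z hz)), mul_inv_cancel_right]

omit h hd he in
theorem locd_dec {y : G} (hy : y ∈ d.Z ⊔ e.Z) : ∃ c ∈ d.Z, ∃ z ∈ e.Z, c * z = y := by
  obtain ⟨a, ha', b, hb, k⟩ :=
    (mem_sup_of_le_normalizer_left (ha.2.trans (centralizer_le_normalizer' _))).1 hy
  exact ⟨a, ha', b, hb, k.symm⟩

theorem locd_ti {σ ρ c z : G} (hc : c ∈ d.Z) (hz : z ∈ e.Z) (c1 : c ≠ 1) (e1 : ⁅σ, c⁆ = z)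
    (e2 : ⁅ρ, z⁆ = c) : cj(σ, d.R) = cj(ρ, e.R) ∧ cj(σ, d.Z) = cj(ρ, e.Z) := by
  have k : σ * c * σ⁻¹ = ρ * z * ρ⁻¹ := by
    rw [commutatorElement_def, mul_inv_eq_iff_eq_mul] at e1 e2
    rw [e1, e2, ha.2 hz c hc]
  have := h.ti _ (h.inv d hd σ) _ (h.inv e he ρ) _ (conj_mem_cj σ hc) (k ▸ conj_mem_cj ρ hz)
    (by simpa using c1)
  exact ⟨this.1, this.2.1⟩

/-- PROOF.  `σ ∈ WW e d`, `σ ∉ 𝐂[Z]` (`exists_WW`), `1 ≠ c ∈ Z`, `z' = ⁅σ, c⁆ ≠ 1` (`cent_of_R`),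
`σ c σ⁻¹ = z' c`.  `Full` gives `ρ ∈ WW d e` with `⁅ρ, z'⁆ = c`, `ρ z' ρ⁻¹ = c z'`.  `g = ρ⁻¹ σ` sends
`c` to `z'`; `h.ti` for `d.conj g` and `e`.  Elements of `WW d e`, `WW e d` normalise `E`. -/
theorem exists_swap (hf : Full d e) :
    ∃ g ∈ 𝐍[d.Z ⊔ e.Z], cj(g, d.R) = e.R ∧ cj(g, d.Z) = e.Z := by
  obtain ⟨σ, hσ, n⟩ := h.exists_WW he hd ha.symm
  obtain ⟨c, hc, c1⟩ := h.locd_ex hd
  have m := (h.loc e he).toLc0.mem_WW.1 hσ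
  obtain ⟨ρ, hρ, k⟩ := hf _ (m.2 c hc) (fun q => n (h.cent_of_R he hd m.1 hc c1 q)) c hc
  obtain ⟨k1, k2⟩ := h.locd_ti hd he ha hc (m.2 c hc) c1 rfl k
  refine ⟨ρ⁻¹ * σ, mul_mem (inv_mem (h.locd_norm hd hρ)) (sup_comm e.Z d.Z ▸ h.locd_norm he hσ), ?_, ?_⟩
  · rw [cj_mul, k1, cj_inv_cj]
  · rw [cj_mul, k2, cj_inv_cj]

/-- PROOF.  `g` from `exists_swap`.  Given `1 ≠ c₁ ∈ Z`, `z₁ ∈ e.Z`: `g⁻¹ c₁ g ∈ E` is not in `Z` (else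
`c₁ ∈ e.Z`), so is `ζ z₂` with `z₂ ≠ 1`; `c₂ = g⁻¹ z₁ g ∈ Z`.  Take `ρ' ∈ WW d e` with
`⁅ρ', z₂⁆ = c₂ = ⁅ρ', ζ z₂⁆` and `ρ = g ρ' g⁻¹ ∈ e.R`; `⁅ρ', y⁆ ∈ Z` for all `y ∈ E`. -/
theorem full_symm (hf : Full d e) : Full e d := by
  intro c₁ hc c1 z₁ hz
  obtain ⟨g, hg, kR, kZ⟩ := h.exists_swap hd he ha hf
  obtain ⟨ζ, hζ, z₂, h2, k⟩ := locd_dec ha (inv_conj_mem_of_mem_normalizer hg (mem_sup_left hc))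
  obtain ⟨ρ, hρ, q⟩ := hf z₂ h2 (fun q => c1 (h.disj hd he ha hc (kZ ▸ mem_cj.2 (by
    rwa [← k, q, mul_one])))) _ (mem_cj.1 (kZ.ge hz))
  have m := (h.loc d hd).toLc0.mem_WW.1 hρ
  have t : ∀ c, ⁅g * ρ * g⁻¹, c⁆ = g * ⁅ρ, g⁻¹ * c * g⁆ * g⁻¹ := fun c => by
    simp only [commutatorElement_def]; group
  refine ⟨g * ρ * g⁻¹, (h.loc e he).toLc0.mem_WW.2 ⟨kR ▸ conj_mem_cj g m.1, fun c hc => ?_⟩, ?_⟩
  · obtain ⟨ζ, hζ, z, hz, k⟩ := locd_dec ha (inv_conj_mem_of_mem_normalizer hg (mem_sup_left hc))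
    rw [t, ← k, h.locd_cm hd hρ hζ hz, ← kZ]
    exact conj_mem_cj g (m.2 z hz)
  · rw [t, ← k, h.locd_cm hd hρ hζ h2, q]
    group

/-- PROOF.  Let `1 ≠ c ∈ Z`.  `σ ∈ WW e d` with `⁅σ, c⁆ = z₀`, `ρ ∈ WW d e` with `⁅ρ, z₀⁆ = c`.  Then
`z₀ c = σ c σ⁻¹ = ρ z₀ ρ⁻¹` lies in `(d.conj σ).Z` and `(e.conj ρ).Z`, so `cj(σ, R) = cj(ρ, e.R)`
(`h.ti`).  `z₀ c ∈ R`, so `c = σ (z₀ c) σ⁻¹ ∈ cj(ρ, e.R)`, and `ρ` centralises `c`. -/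
theorem le_of_mem (hf : Full d e) {z₀ : G} (h0 : z₀ ∈ e.Z) (h1 : z₀ ≠ 1) (h2 : z₀ ∈ d.R) :
    d.Z ≤ e.R := by
  intro c hc
  by_cases c1 : c = 1
  · exact c1 ▸ one_mem _
  have l := (h.loc d hd).toLc0
  have l' := (h.loc e he).toLc0
  obtain ⟨σ, hσ, k1⟩ := h.full_symm hd he ha hf c hc c1 z₀ h0
  obtain ⟨ρ, hρ, k2⟩ := hf z₀ h0 h1 c hc
  have m := conj_mem_cj σ (mul_mem h2 (l.ZR hc))
  rw [(h.locd_ti hd he ha hc h0 c1 k1 k2).1, show σ * (z₀ * c) * σ⁻¹ = σ * z₀ * σ⁻¹ * ⁅σ, c⁆ * c by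
    rw [commutatorElement_def]; group, l'.Zc h0 σ (l'.mem_WW.1 hσ).1, mul_inv_cancel_right, k1, l'.Z2 _ h0,
    one_mul, mem_cj, mul_assoc, ← l.Zc hc ρ (l.mem_WW.1 hρ).1, inv_mul_cancel_left] at m
  exact m

/-- PROOF.  `exists_mem` for `(e, d)`, `le_of_mem` for `(d, e)`, then for `(e, d)`. -/
theorem le_R (hf : Full d e) : d.Z ≤ e.R ∧ e.Z ≤ d.R := by
  obtain ⟨z, hz, z1, m⟩ := h.exists_mem he hd ha.symm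
  have k := h.le_of_mem hd he ha hf hz z1 m
  obtain ⟨c, hc, c1⟩ := h.locd_ex hd
  exact ⟨k, h.le_of_mem he hd ha.symm (h.full_symm hd he ha hf) hc c1 (k hc)⟩

/-- PROOF.  Let `τ ∈ e.R ⊓ 𝐂[Z]` (so `τ ∈ L`), `τ ∉ R`.  Claim `W d τ ≤ 𝐂[e.Z]`.  Let `ρ₀ ∈ W d τ`,
`ρ₀ ∉ 𝐂[e.Z]`, `f = ρ₀ τ ρ₀⁻¹ = ⁅ρ₀, τ⁆ τ ∈ e.R` (`le_R`).  `1 ≠ z ∈ e.Z`, `c = ⁅ρ₀, z⁆ ∈ Z`
(`comm_mem`), `c ≠ 1`; `σ ∈ WW e d` with `⁅σ, c⁆ = z`; `c z` lies in `(e.conj ρ₀).Z` and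
`(d.conj σ).Z`, so `f ∈ cj(ρ₀, e.R) = cj(σ, R)`, `σ⁻¹ f σ = ⁅σ⁻¹, f⁆ f ∈ R` with `⁅σ⁻¹, f⁆ ∈ e.Z ≤ R`;
so `f ∈ R`, `τ ∈ R`.  Now `e.Z ≤ W d τ` (`τ ∈ e.R` centralises `e.Z ≤ R`), so
`cj(a ^ i, e.Z) ≤ W d τ ≤ 𝐂[e.Z]` (`W_norm`), against `Beta` (take `z ≠ 1`, `c ≠ 1`). -/
theorem inf_le (hb : Beta d e) : e.R ⊓ 𝐂[d.Z] ≤ d.R := by
  rintro τ ⟨t1, t2⟩
  have l := (h.loc d hd).toLc0
  have l' := (h.loc e he).toLc0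
  obtain ⟨k1, k2⟩ := h.le_R hd he ha hb.1
  obtain ⟨c, hc, c1⟩ := h.locd_ex hd
  obtain ⟨z, hz, z1⟩ := h.locd_ex he
  have tL : τ ∈ d.L := l.cent c hc c1 (mem_centralizer_singleton_iff.2 (t2 c hc).symm)
  by_contra n
  have cl : W d τ ≤ 𝐂[e.Z] := fun ρ hρ => by
    by_contra n'
    rw [l.mem_W] at hρ
    have a1 := l.comm_mem hρ.1 (k2 hz)
    have a2 : ⁅ρ, z⁆ ≠ 1 := fun q => n' (h.cent_of_R hd he hρ.1 hz z1 q)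
    obtain ⟨σ, hσ, q⟩ := h.full_symm hd he ha hb.1 _ a1 a2 z hz
    have f1 : ρ * τ * ρ⁻¹ ∈ e.R := by
      rw [show ρ * τ * ρ⁻¹ = ⁅ρ, τ⁆ * τ by rw [commutatorElement_def]; group]
      exact mul_mem (k1 hρ.2) t1
    have f2 := conj_mem_cj ρ t1
    rw [← (h.locd_ti hd he ha a1 hz a2 q rfl).1, mem_cj, show σ⁻¹ * (ρ * τ * ρ⁻¹) * σ =
      ⁅σ⁻¹, ρ * τ * ρ⁻¹⁆ * (ρ * τ * ρ⁻¹) by rw [commutatorElement_def]; group,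
      mul_mem_cancel_left (k2 (l'.comm_mem (inv_mem (l'.mem_WW.1 hσ).1) f1)),
      mul_mem_cancel_right (inv_mem hρ.1), mul_mem_cancel_left hρ.1] at f2
    exact n f2
  obtain ⟨i, hi⟩ := hb.2 k2
  obtain ⟨ρ, hρ, q⟩ := hi z hz z1 c hc
  have w : e.Z ≤ W d τ := fun y hy => l.mem_W.2 ⟨k2 hy, by
    rw [commutatorElement_eq_one_iff_mul_comm.2 (l'.Zc hy τ t1).symm]; exact one_mem _⟩
  exact c1 (q.symm.trans (commutatorElement_eq_one_iff_mul_comm.2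
    (cl (cj_le_of_mem_normalizer w (pow_mem (l.W_norm tL) i) hρ) z hz).symm))

/-- PROOF.  `T = R ⊓ 𝐂[e.Z] = R ⊓ 𝐂[E]`, `T' = e.R ⊓ 𝐂[Z] = e.R ⊓ 𝐂[E] = cj(g, T)` (`exists_swap`);
`T' ≤ T` (`inf_le`), so `T = T' ≤ R ⊓ e.R` by orders; `x x ∈ Z ⊓ e.Z`, `disj`. -/
theorem sq_T (hb : Beta d e) {x : G} (hx : x ∈ d.R ⊓ 𝐂[e.Z]) : x * x = 1 := by
  have l := (h.loc d hd).toLc0
  have l' := (h.loc e he).toLc0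
  obtain ⟨g, hg, kR, -⟩ := h.exists_swap hd he ha hb.1
  have a1 : cj(g, d.R ⊓ 𝐂[e.Z]) ≤ e.R ⊓ 𝐂[d.Z] := cj_le_iff_forall.2 fun y hy =>
    ⟨kR ▸ conj_mem_cj g hy.1, centralizer_anti le_sup_left (conj_mem_of_mem_normalizer
      (normalizer_le_normalizer_centralizer _ hg) (by
        rw [centralizer_sup]; exact ⟨le_centralizer_iff.1 l.Zc hy.1, hy.2⟩))⟩
  rw [cj_of_mem_normalizer (mem_normalizer_of_cj_le (a1.trans (le_inf (h.inf_le hd he ha hb)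
    (inf_le_left.trans (le_centralizer_iff.1 l'.Zc)))))] at a1
  exact h.disj hd he ha (l.sq x hx.1) (l'.sq x (a1 hx).1)

/-- PROOF.  `b = a ^ i` from `Beta`, `T = R ⊓ 𝐂[e.Z]`, `T₁ = cj(b, T) = R ⊓ 𝐂[cj(b, e.Z)]`,
`cj(b, e.Z) = (e.conj b).Z ≤ T₁`.  Every `y ∈ R` with `y y = 1` lies in `T` or `T₁`: fix `1 ≠ z ∈ e.Z`,
take `ρ ∈ cj(b, e.Z)` with `⁅ρ, z⁆ = ⁅y, z⁆`, `t = ρ⁻¹ y` commutes with `z` (`comm_mul`, `W d z = R`),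
`t ∈ T`; if `ρ ≠ 1` then `ρ t ρ t = ρ ρ = t t = 1` makes `t` commute with `ρ`, `t ∈ T₁` (`cent_of_R`
with `e.conj b`), `y = ρ t ∈ T₁`.  `T₂ = cj(b * b, T) ≤ R` has exponent 2, so lies in the union of two
subgroups, so in one of them, and equals it by orders: `b * b` or `b` normalises `T`; as `b ^ p = 1`
with `p` odd, `b` does.  So `cj(b, e.Z) ≤ T₁ = T`, against `Beta` with `c ≠ 1`. -/
theorem not_beta (hb : Beta d e) : False := by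
  have l := (h.loc d hd).toLc0
  obtain ⟨-, k2⟩ := h.le_R hd he ha hb.1
  obtain ⟨c, hc, c1⟩ := h.locd_ex hd
  obtain ⟨z, hz, z1⟩ := h.locd_ex he
  obtain ⟨i, hi⟩ := hb.2 k2
  have bR : d.a ^ i ∈ 𝐍[d.R] := l.nR (pow_mem l.aL i)
  have bp : (d.a ^ i) ^ p = 1 := by rw [← pow_mul, mul_comm, pow_mul, ← l.ord, pow_orderOf_eq_one, one_pow]
  generalize d.a ^ i = b at hi bR bp
  have l' := (h.loc _ (h.inv e he b)).toLc0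
  have T1 : cj(b, d.R ⊓ 𝐂[e.Z]) = d.R ⊓ 𝐂[cj(b, e.Z)] := by
    rw [cj_inf, cj_of_mem_normalizer bR, centralizer_cj]
  have Z1 : cj(b, e.Z) ≤ d.R ⊓ 𝐂[cj(b, e.Z)] :=
    le_inf (cj_le_of_mem_normalizer k2 bR) (l'.Zc.trans (centralizer_anti l'.ZR))
  have A : ∀ y ∈ d.R, y * y = 1 → y ∈ d.R ⊓ 𝐂[e.Z] ∨ y ∈ cj(b, d.R ⊓ 𝐂[e.Z]) := fun y hy y2 => by
    obtain ⟨ρ, hρ, q⟩ := hi z hz z1 _ (l.comm_mem hy (k2 hz))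
    have tR : ρ⁻¹ * y ∈ d.R := mul_mem (inv_mem (mem_inf.1 (Z1 hρ)).1) hy
    have tT : ρ⁻¹ * y ∈ d.R ⊓ 𝐂[e.Z] := ⟨tR, h.cent_of_R hd he tR hz z1 (by
      rw [show ⁅ρ⁻¹ * y, z⁆ = ρ⁻¹ * (⁅y, z⁆ * z) * ρ * z⁻¹ by simp only [commutatorElement_def]; group, ← q,
        commutatorElement_def]
      group)⟩
    by_cases r1 : ρ = 1
    · rw [r1, inv_one, one_mul] at tT
      exact Or.inl tT
    have t2 := h.sq_T hd he ha hb tT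
    have r2 := inv_eq_of_mul_eq_one_right (l'.Z2 ρ hρ)
    rw [T1]
    refine Or.inr ⟨hy, h.cent_of_R hd (h.inv e he b) hy hρ r1 ?_⟩
    rw [r2] at t2
    rw [commutatorElement_def, inv_eq_of_mul_eq_one_right y2, r2,
      show y * ρ * y * ρ = ρ⁻¹ * (ρ * y * (ρ * y)) * ρ by group, t2, mul_one, inv_mul_cancel]
  have B : ∀ y ∈ cj(b * b, d.R ⊓ 𝐂[e.Z]), y ∈ d.R ⊓ 𝐂[e.Z] ∨ y ∈ cj(b, d.R ⊓ 𝐂[e.Z]) := by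
    rintro _ ⟨y, hy, rfl⟩
    refine A _ (conj_mem_of_mem_normalizer (mul_mem bR bR) hy.1) ?_
    rw [← map_mul, h.sq_T hd he ha hb hy, map_one]
  have N : b ∈ 𝐍[d.R ⊓ 𝐂[e.Z]] := by
    by_cases c : cj(b * b, d.R ⊓ 𝐂[e.Z]) ≤ d.R ⊓ 𝐂[e.Z]
    · obtain ⟨k, hk⟩ := l.pp.odd_of_ne_two l.p2
      have := pow_mem (mem_normalizer_of_cj_le c) (k + 1)
      rwa [← pow_two, ← pow_mul, show 2 * (k + 1) = p + 1 by omega, pow_succ, bp, one_mul] at this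
    obtain ⟨u, hu, un⟩ := SetLike.not_le_iff_exists.1 c
    refine mem_normalizer_of_cj_le ((cj_le_cj_iff (g := b)).1 (cj_mul b b _ ▸ fun v hv => ?_))
    refine (B v hv).elim (fun hv' => (B _ (mul_mem hu hv)).elim
      (fun q => absurd ((mul_mem_cancel_right hv').1 q) un)
      fun q => (mul_mem_cancel_left ((B u hu).resolve_left un)).1 q) id
  rw [← T1, cj_of_mem_normalizer N] at Z1
  obtain ⟨ρ, hρ, q⟩ := hi z hz z1 c hc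
  exact c1 (q.symm.trans (commutatorElement_eq_one_iff_mul_comm.2 ((Z1 hρ).2 z hz).symm))

end Fam

end Cfsg.Agent.Q2
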