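import Mathlib
import Cfsg.Agent.Q2.FamB
import Cfsg.Agent.Q2.OneA
import Cfsg.Agent.S0215

/-!
S3617, case `|Z| = 2`.  `A = zpowers a`, `d = dat D M a` (use `h.lc0`, lemmas of `LocA`).
-/

set_option autoImplicit false
set_option linter.unusedSectionVars false
set_option linter.unusedVariables false

namespace Cfsg.Agent.Q2

open Subgroup Cfsg Cfsg.Agent.PLocal.Amb Cfsg.Agent.FrD
open scoped commutatorElement

variable {G : Type*} [Group G] [Finite G] {p : ℕ} {D : Set (Subgroup G)}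

theorem oneB_zstar {C : Subgroup G} {z : G} (hz : z ∈ C) (h1 : z ≠ 1) (h2 : z * z = 1)
    (hiso : ∀ P : Subgroup G, IsPGroup 2 P → P ≤ C → z ∈ P → ∀ g ∈ C, g * z * g⁻¹ ∈ P →
      g * z * g⁻¹ = z) :
    ∃ O : Subgroup G, O ≤ C ∧ C ≤ 𝐍[O] ∧ Odd (Nat.card O) ∧ ∀ g ∈ C, z * g * z⁻¹ * g⁻¹ ∈ O := by
  haveI := Fact.mk Nat.prime_two
  have pz : IsPGroup 2 (zpowers (⟨z, hz⟩ : C)) :=
    isPGroup_zpowers ⟨1, Subtype.ext (by rw [pow_one, sq]; exact h2)⟩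
  obtain ⟨P, hP⟩ := pz.exists_le_sylow
  have zP : (⟨z, hz⟩ : C) ∈ P := hP (mem_zpowers _)
  obtain ⟨N, hN, o, k⟩ := S0215.result P ⟨z, hz⟩
    (orderOf_eq_prime (Subtype.ext (by rw [sq]; exact h2)) fun e => h1 (congrArg Subtype.val e)) zP
    fun g hg => Subtype.ext (hiso ((P : Subgroup C).map C.subtype) (P.isPGroup'.map _)
      (map_subtype_le _) ⟨_, zP, rfl⟩ g g.2 ⟨_, hg, rfl⟩)
  exact ⟨N.map C.subtype, map_subtype_le _, le_normalizer_map_subtype N,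
    by rwa [card_map_of_injective C.subtype_injective], fun g hg => ⟨_, k ⟨g, hg⟩, rfl⟩⟩

theorem oneB_uniq {d : Dat G} (l : Lc0 p d) (hZ : Nat.card d.Z = 2) {g z : G} (hg : g ∈ d.L)
    (hz : z ∈ d.Z) : g * z * g⁻¹ = z := by
  by_cases h1 : z = 1
  · simp [h1]
  obtain ⟨y, -, k⟩ := (Nat.card_eq_two_iff' (1 : d.Z)).1 hZ
  have e1 := k ⟨z, hz⟩ fun e => h1 (congrArg Subtype.val e)
  have e2 := k ⟨_, l.lA_nz hg hz⟩ fun e => h1 (conj_eq_one_iff.1 (congrArg Subtype.val e))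
  exact congrArg Subtype.val (e2.trans e1.symm)

theorem oneB_mem {a u : G} (ha : a * u = u * a) : u ∈ 𝐂[zpowers a] := by
  rw [PLocal.Amb.centralizer_zpowers]
  exact mem_centralizer_singleton_iff.2 ha.symm

namespace Ce

variable (h : Ce p 2 D) {M M' : Subgroup G} {a b u ρ : G}
include h

/-- PROOF.  `Z = {1, z}`, `C = 𝐂[A]`.  A Sylow 2-subgroup `P ∋ z` of `C` lies in `𝐍[M]`
(`le_normalizer_of_mem`; `A` centralises `P`).  If `g ∈ C`, `g z g⁻¹ ∈ P` then `g z g⁻¹` lies in the `Z` of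
`cj(g, M)` (`dat_conj`, `fl_cj`), `blk_eq_of_norm` gives `M = cj(g, M)`, so `g z g⁻¹ = z`.  S0215 in
`↥C` gives `O` of odd order, normal in `C`, containing all `z g z⁻¹ g⁻¹`.  `not_cent_le` and
`C(z) ≤ 𝐍[M]` (`cent`) give `g ∈ C` with `y = z g z⁻¹ g⁻¹ ≠ 1`; `z y z⁻¹ = y⁻¹ ≠ y` (odd order), so
`z ∉ 𝐂[O]`.  `exists_four` gives `o`; `M' = cj(o, M)`; `M' = M` would make `o` normalise `Z`. -/
theorem exists_second (f : Fl D M a) (hZ : Nat.card (dat D M a).Z = 2) (hn : u ∈ 𝐍[M])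
    (ha : a * u = u * a) (hu : u * u = 1) :
    ∃ c ∈ (dat D M a).Z, ∃ M', Fl D M' a ∧ M' ≠ M ∧ c * u ∈ 𝐍[M'] := by
  have h1 : (dat D M a).Z ≠ ⊥ := fun e => by rw [e, card_bot] at hZ; omega
  have l := h.lc0 f h1
  obtain ⟨⟨z, hz⟩, z0⟩ := ne_bot_iff_exists_ne_one.1 h1
  have z1 : z ≠ 1 := fun e => z0 (Subtype.ext e)
  have z2 := l.Z2 z hz
  have cA : ∀ g ∈ 𝐂[zpowers a], zpowers a ≤ cj(g, M) := fun g hg =>
    (cj_of_mem_normalizer (centralizer_le_normalizer' _ hg)).ge.trans (cj_mono g f.le)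
  obtain ⟨O, o1, o2, o3, o4⟩ := oneB_zstar (C := 𝐂[zpowers a]) hz.2 z1 z2
    fun P hP hPC hzP g hg hgP => by
      have k := h.le_normalizer_of_mem f.blk f.pt f.le hP
        ((le_centralizer_iff.1 hPC).trans (centralizer_le_normalizer' _)) hz z1 hzP
      have e := h.blk_eq_of_norm (h.blk_cj f.blk g) f.blk f.pt (cA g hg) f.le (c := g * z * g⁻¹)
        ⟨by rw [h.rad_cj]; exact conj_mem_cj g hz.1, hPC hgP⟩ (fun e => z1 (conj_eq_one_iff.1 e)) (k hgP)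
      exact oneB_uniq l hZ (cj_eq_iff.1 e.symm) hz
  obtain ⟨g, hg, hg'⟩ := SetLike.not_le_iff_exists.1 (h.not_cent_le f.blk f.pt f.le)
  have zi : z⁻¹ = z := inv_eq_of_mul_eq_one_left z2
  have nc : z ∉ 𝐂[O] := fun hc => hg' (l.cent z hz z1 (mem_centralizer_singleton_iff.2 (by
    have e := mem_centralizer_iff.1 hc _ (o4 g hg)
    have e2 : z * g * z⁻¹ * g⁻¹ * (z * g * z⁻¹ * g⁻¹) = 1 := by
      calc _ = z * g * z⁻¹ * g⁻¹ * z * (g * z⁻¹ * g⁻¹) := by group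
        _ = z * z * g * (z * z)⁻¹ * g⁻¹ := by rw [e]; group
        _ = 1 := by rw [z2]; group
    have e3 : z * g * z⁻¹ * g⁻¹ = 1 := by
      have := orderOf_dvd_natCard (⟨_, o4 g hg⟩ : O)
      have d2 : orderOf (⟨_, o4 g hg⟩ : O) ∣ 2 :=
        orderOf_dvd_of_pow_eq_one (Subtype.ext (by rw [sq]; exact e2))
      have := Nat.dvd_gcd this d2
      rw [Nat.coprime_two_right.2 o3, Nat.dvd_one, orderOf_eq_one_iff] at this
      exact congrArg Subtype.val this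
    rw [mul_inv_eq_one, mul_inv_eq_iff_eq_mul] at e3
    exact e3.symm)))
  have uz : u * z = z * u := mul_inv_eq_iff_eq_mul.1 (oneB_uniq l hZ hn hz)
  obtain ⟨o, ho, k1, k2⟩ := exists_four o3 z2 hu uz (o2 hz.2) (o2 (oneB_mem ha)) nc
  have k3 : ∀ v ∈ 𝐍[M], o * v = v * o → v ∈ 𝐍[cj(o, M)] := fun v hv e => by
    rw [normalizer_cj, ← mul_inv_eq_iff_eq_mul.2 e]
    exact conj_mem_cj o hv
  have k4 : cj(o, M) ≠ M := fun e =>
    k1 (mul_inv_eq_iff_eq_mul.1 (oneB_uniq l hZ (cj_eq_iff.1 e) hz))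
  have k5 : Fl D cj(o, M) a := ⟨h.blk_cj f.blk o, f.pt, cA o (o1 ho)⟩
  rcases k2 with k2 | k2
  · exact ⟨1, one_mem _, _, k5, k4, by rw [one_mul]; exact k3 u hn k2⟩
  · exact ⟨z, hz, _, k5, k4, by rw [← uz]; exact k3 _ (mul_mem hn (l.RL hz.1)) k2⟩

/-- PROOF.  Suppose `u ∉ Z`; take `c`, `M°` from `exists_second`, `u' = c u ≠ 1`, `u' u' = 1`,
`W = W d u = W d u'` (`W_mul`), `W₁ = ⁅W, A⁆ ≤ R₀ = R ⊓ R°` (`comm_W_le`).  `R₀ ⊓ Z = ⊥`
(`blk_eq_of_mem`), so `R₀` is commutative (`comm_mem`), and `W = W₁ ⊔ W ⊓ Z` (`comm_sup`, `W_norm`) is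
commutative.  `W₁ ≠ ⊥` (`exists_W` with `B = R`, `not_le`).  Take `1 ≠ z° ∈ Z°` (`card_Z`); it
centralises `R° ≥ W₁`; `K = 𝐍[W₁] ≠ ⊤` contains `A` and `z°`, so `dcl D K ≤ M°` (`le_blk`).
`B = R ⊓ 𝐂[R] ≤ K`, `V = ⁅B, A⁆ ≤ rad D K ≤ R°` (`comm_le_rad`).  If `V ≠ ⊥` then `z° ∈ 𝐍[V] ≤ 𝐍[M]`
(`nrm`), `blk_eq_of_norm` gives `M = M°`.  So `B ≤ Z` (`comm_sup`).  `(ρ u) (ρ u) = 1` gives
`⁅ρ, u⁆ = ρ ρ ∈ Z`.  `conj_of_ab`: `ρ u = x (c' u) x⁻¹` centralises the point `cj(x, A) ≤ M`;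
`ρ u ≠ 1` (else `u ∈ R`, `fix`); `blk_eq_of_cent`. -/
theorem dec_one (f : Fl D M a) (hZ : Nat.card (dat D M a).Z = 2) (f' : Fl D M' b) (hne : M ≠ M')
    (hρ : ρ ∈ rad D M) (hn : u ∈ 𝐍[M]) (ha : a * u = u * a) (hz : ρ * u ∈ (dat D M' b).Z)
    (hu : u * u = 1) : u ∈ (dat D M a).Z := by
  by_contra hu'
  have ne : ∀ {N : Subgroup G} {e : G}, Fl D N e → (dat D N e).Z ≠ ⊥ := fun fN e => by
    rw [h.card_Z f fN, e, card_bot] at hZ; omega
  have l := h.lc0 f (ne f)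
  have l' := h.lc0 f' (ne f')
  obtain ⟨c, hc, N, fN, hN, hcu⟩ := h.exists_second f hZ hn ha hu
  have lN := h.lc0 fN (ne fN)
  have uc : u * c = c * u := mul_inv_eq_iff_eq_mul.1 (oneB_uniq l hZ hn hc)
  have nW : zpowers a ≤ 𝐍[W (dat D M a) u] := zpowers_le.2 (l.W_norm hn)
  have w1 : ⁅W (dat D M a) u, zpowers a⁆ ≤ rad D N := by
    rw [← l.W_mul (l.ZR hc) u]
    refine h.comm_W_le f fN (ne f) ?_ (fun e => hu' ?_) ?_ (mul_mem (l.RL (l.ZR hc)) hn) hcu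
    · calc c * u * (c * u) = c * (u * c) * u := by group
        _ = c * c * (u * u) := by rw [uc]; group
        _ = 1 := by rw [l.Z2 c hc, hu, mul_one]
    · rw [eq_inv_of_mul_eq_one_right e]; exact inv_mem hc
    · rw [← mul_assoc, show a * c = c * a from l.Za c hc, mul_assoc, ha, mul_assoc]
  have w2 : ⁅W (dat D M a) u, zpowers a⁆ ≤ rad D M :=
    (Solv.commutator_le_of_le_normalizer nW).trans (l.W_le u)
  have w3 := l.comm_sup (l.W_le u) (l.W_norm hn)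
  have w4 := Solv.le_normalizer_commutator_right (W (dat D M a) u) (zpowers a)
  simp only [dat_a] at w3
  generalize ⁅W (dat D M a) u, zpowers a⁆ = W₁ at w1 w2 w3 w4
  have w5 : W₁ ≤ 𝐂[W₁] := fun x hx y hy => by
    by_contra e
    exact hN (h.blk_eq_of_mem fN f (lN.comm_mem (w1 hy) (w1 hx)) (l.comm_mem (w2 hy) (w2 hx))
      fun e' => e (commutatorElement_eq_one_iff_mul_comm.1 e'))
  have w6 : W (dat D M a) u ≤ 𝐂[W (dat D M a) u] := by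
    have k : W (dat D M a) u ⊓ (dat D M a).Z ≤ 𝐂[rad D M] := inf_le_right.trans l.Zc
    refine w3.ge.trans (sup_le ?_ (k.trans (centralizer_anti (l.W_le u))))
    conv_rhs => rw [← w3, centralizer_sup]
    exact le_inf w5 (w2.trans (le_centralizer_iff.1 k))
  have w7 : W₁ ≠ ⊥ := fun e => by
    obtain ⟨x, -, x1, x2⟩ := l.exists_W hn hu le_rfl (l.nR hn) l.not_le
    rw [e, bot_sup_eq] at w3
    exact x2 (w3.ge x1).2
  obtain ⟨⟨z, zN⟩, z0⟩ := ne_bot_iff_exists_ne_one.1 (ne fN)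
  have z1 : z ≠ 1 := fun e => z0 (Subtype.ext e)
  have zc : z ∈ 𝐂[rad D N] := lN.Zc zN
  have hK := h.normalizer_ne_top (l.pg.to_le w2) w7
  have k1 := h.le_blk fN.blk f.pt fN.le zN z1 hK w4 (h.le_normalizer_dcl _
    (centralizer_le_normalizer' _ (centralizer_anti w1 zc)))
  have nR : zpowers a ≤ 𝐍[rad D M] := f.le.trans (h.le_normalizer_rad M)
  have nB : zpowers a ≤ 𝐍[rad D M ⊓ 𝐂[rad D M]] := le_normalizer_inf nR (le_normalizer_centralizer nR)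
  have pB : IsPGroup 2 ↥(rad D M ⊓ 𝐂[rad D M]) := l.pg.to_le inf_le_left
  have k2 : ⁅rad D M ⊓ 𝐂[rad D M], zpowers a⁆ ≤ rad D N := (h.comm_le_rad f.pt pB nB
    (inf_le_right.trans ((centralizer_anti w2).trans (centralizer_le_normalizer' _))) w4).trans
      (rad_le_rad k1)
  have k3 := Solv.commutator_le_of_le_normalizer nB
  have k4 : ⁅rad D M ⊓ 𝐂[rad D M], zpowers a⁆ = ⊥ := by
    by_contra e
    exact hN (h.blk_eq_of_norm fN.blk f.blk f.pt fN.le f.le zN z1 (l.nrm _ (pB.to_le k3) e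
      ((le_centralizer_iff.1 (k3.trans inf_le_right)).trans (centralizer_le_normalizer' _))
      (Solv.le_normalizer_commutator_right _ _ (mem_zpowers a))
      (centralizer_le_normalizer' _ (centralizer_anti k2 zc)))).symm
  have k5 : rad D M ⊓ 𝐂[rad D M] ≤ (dat D M a).Z :=
    le_inf inf_le_left (commutator_eq_bot_iff_le_centralizer.1 k4)
  have k6 : ρ ∈ W (dat D M a) u := l.mem_W.2 ⟨hρ, by
    have e := l'.Z2 _ hz
    rw [show ⁅ρ, u⁆ = ρ * ρ by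
      calc ⁅ρ, u⁆ = ρ * (u * u) * (ρ * u * (ρ * u))⁻¹ * ρ := by
            simp only [commutatorElement_def]; group
        _ = ρ * ρ := by rw [e, hu]; group]
    exact l.sq ρ hρ⟩
  obtain ⟨x, hx, c', hc', e⟩ := l.conj_of_ab hZ k5 hn hu w6 k6
  refine hne (h.blk_eq_of_cent f f' hz (fun e => hu' (l.fix u ?_ ha)) (mul_mem (l.RL hρ) hn)
    (h.inv _ f.pt x) (cj_le_of_mem f.le (rad_le M hx)) ?_)
  · rw [eq_inv_of_mul_eq_one_right e]; exact inv_mem hρ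
  · rw [centralizer_cj, e]
    exact conj_mem_cj x (mul_mem hc'.2 (oneB_mem ha))

end Ce

end Cfsg.Agent.Q2
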