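import Mathlib
import Cfsg.Agent.PLocal.AmbSyl

/-!
S3617, permutation part: definitions.  `TT Γ T`: `X` is 2-transitive on `Γ` (not nec. faithful),
`T ⊴ X` is simple non-abelian and primitive on `Γ`.  Goal (Q2/TC4): `Wt T β = C_T(T_β) = 1`.
-/

set_option autoImplicit false
set_option linter.unusedSectionVars false
set_option linter.unusedVariables false

namespace Cfsg.Agent.Q2

open Subgroup Cfsg Cfsg.Agent.PLocal.Amb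
open scoped commutatorElement

open MulAction

/-- elementary double transitivity -/
def Two (X Γ : Type*) [Group X] [MulAction X Γ] : Prop :=
  ∀ a b c d : Γ, a ≠ b → c ≠ d → ∃ g : X, g • a = c ∧ g • b = d

structure TT {X : Type*} (Γ : Type*) [Group X] [MulAction X Γ] (T : Subgroup X) : Prop where
  two : Two X Γ
  nt : ∀ a : Γ, ∃ b, b ≠ a
  nrm : T.Normal
  smp : ∀ K : Subgroup X, K ≤ T → T ≤ 𝐍[K] → K = ⊥ ∨ K = T
  nc : ¬ T ≤ 𝐂[T]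
  tr : ∀ a b : Γ, ∃ t ∈ T, t • a = b
  mx : ∀ (a : Γ) (K : Subgroup X), T ⊓ stabilizer X a ≤ K → K ≤ T →
    K = T ⊓ stabilizer X a ∨ K = T

variable {X Γ : Type*} [Group X] [MulAction X Γ]

/-- `C_T(T_β)` -/
def Wt (T : Subgroup X) (β : Γ) : Subgroup X := T ⊓ 𝐂[T ⊓ stabilizer X β]

/-- `T_{βγ}` -/
def Ht (T : Subgroup X) (β γ : Γ) : Subgroup X := T ⊓ stabilizer X β ⊓ stabilizer X γ

theorem mem_Wt {T : Subgroup X} {β : Γ} {y : X} :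
    y ∈ Wt T β ↔ y ∈ T ∧ ∀ t ∈ T, t • β = β → t * y = y * t :=
  ⟨fun h => ⟨h.1, fun t ht hb => h.2 t ⟨ht, hb⟩⟩, fun h => ⟨h.1, fun t ht => h.2 t ht.1 ht.2⟩⟩

theorem mem_Ht {T : Subgroup X} {β γ : Γ} {y : X} :
    y ∈ Ht T β γ ↔ y ∈ T ∧ y • β = β ∧ y • γ = γ :=
  ⟨fun h => ⟨h.1.1, h.1.2, h.2⟩, fun h => ⟨⟨h.1, h.2.1⟩, h.2.2⟩⟩

/-- the Frobenius kernel over `H = T_{βγ}` -/
structure Ker (T : Subgroup X) (β γ : Γ) (r : ℕ) (K : Subgroup X) : Prop where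
  rp : r.Prime
  HK : Ht T β γ ≤ K
  KT : K ≤ T
  nH : K ≤ 𝐍[Ht T β γ]
  WK : Wt T β ≤ 𝐍[K]
  pw : ∀ x ∈ K, x ^ r ∈ Ht T β γ
  mv : ∃ k ∈ K, k • β = γ
  reg : ∀ x ∈ K, x • β = β → x ∈ Ht T β γ
  cop : ∀ y ∈ Wt T β, y ^ r = 1 → y = 1

end Cfsg.Agent.Q2
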