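import Mathlib
import Cfsg.Agent.Q2.TDefs
import Cfsg.Agent.Perm.Onl

/-!
S3617, O'Nan–Scott reduction: the hypothesis in elementary form.  `G` is primitive on `Ω`, and
`G_α` is 2-transitive on the orbit of `β ≠ α`, which has at least two points.
-/

set_option autoImplicit false
set_option linter.unusedSectionVars false
set_option linter.unusedVariables false

namespace Cfsg.Agent.Q2

open Subgroup Cfsg Cfsg.Agent.PLocal.Amb
open scoped commutatorElement

open MulAction

structure Sb (G : Type*) {Ω : Type*} [Group G] [MulAction G Ω] (α β : Ω) : Prop where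
  prim : IsPreprimitive G Ω
  ne : β ≠ α
  mv : ∃ g : G, g • α = α ∧ g • β ≠ β
  two : ∀ g h : G, g • α = α → h • α = α → g • β ≠ β → h • β ≠ β →
    ∃ k : G, k • α = α ∧ k • β = β ∧ k • g • β = h • β

theorem cj_eq_cj {G : Type*} [Group G] (g : G) (S : Subgroup G) : Perm.Onl.cj g S = cj(g, S) := rfl

end Cfsg.Agent.Q2
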