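import Mathlib
import Cfsg.Agent.Q2.ODefs

/-!
S3617, O'Nan–Scott reduction: basic facts and the product action case.  `A = stabilizer G α`.
API: `Cfsg/Agent/Perm/Onl.lean` (`Fac`, `Cm`, `proj`; its `cj g S` is `cj(g, S)` by `rfl`, `cj_eq_cj`).

`tr_or`: if `k₀ ∈ K` moves `β` and `g ∈ A` moves `β`, take `k` from `two` with `k • k₀ • β = g • β`; then
`k k₀ k⁻¹ ∈ K` maps `β` to `g • β`.  (`g • β = β`: take `1`.)
`bot_of_norm`: `A` is a coatom (`prim`, `Ω` nontrivial) and `A ≤ 𝐍[K]`.  `G_β ≤ A` is impossible: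
`G_β` is a coatom too (or has the order of `A`), so `G_β = A`, against `mv`.  So `𝐍[K] = ⊤`; a normal
subgroup fixing `α` fixes every point (transitivity), so `K = ⊥` (faithful).
`bot_of_cj`: `K = cj(m, K)` (orders), and `G_β = cj(m, A)` normalises `cj(m, K)`; `bot_of_norm`.
`bot_of_le`: `bot_of_cj` with `m • α = β`, `cj(m, L ⊓ A) = L ⊓ G_β`.
`pa_false`: call `S' = cj g S` factors (`Fac.conj`), `E S' = S' ⊓ A`.
(1) For every factor `S'` and point `ω`: `proj S' (N ⊓ G_ω) ≠ S'`, so `proj S' (N ⊓ G_ω) ≤ G_ω`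
(`proj_le_stab`): `S' = cj q S` with `q ∈ A` (`exists_stab_cj`), `ω = n • α` with `n ∈ N`, `cj n S' = S'`
(`cj_eq`); conjugating `proj S' (N ⊓ G_ω) = S'` by `(n q)⁻¹` gives `proj S (N ⊓ A) = S`.
(2) `W = ⨆ g, E (cj g S) ≤ N ⊓ A` is normalised by `A`.  If `W ≤ G_β` then `W ≤ cj(m, W)` for `m ∈ N`,
`m • α = β` (`E S' ≤ S' ⊓ G_β = cj(m, E S')`), so `W = ⊥` (`bot_of_cj`); then for `x ∈ N ⊓ A` and each
factor `x = s c` (`decomp`), `s ∈ proj S' (N ⊓ A) ≤ E S' = ⊥` by (1), so `x` centralises all factors, so `N`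
(`le_of_conj_le` with `centralizer {x}`); `N ⊓ 𝐂[N]` is normal and `≠ N` (`nab`), so `⊥` (`min`): `x = 1`,
against `h0`.  So `W` is transitive on the orbit `A • β` (`tr_or`) and some `E S₁ ≰ G_β`.
(3) No `E S'` fixes `β`: else, as `W ≤ N ⊓ A` normalises `E S'`, it fixes all `w • β`, so all of `A • β`;
`S' = cj q S₁` with `q ∈ A`, `r ∈ E S₁` moves `β`, so `q r q⁻¹ ∈ E S'` moves `q • β`.
(4) `S₁ = S`, `S₂ = cj g S ≠ S` (`exists_cj_ne`), `r₁ ∈ E S₁`, `r₂ ∈ E S₂` move `β` and commute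
(`cm_of_ne`).  There are a factor `S₃` and `r₃ ∈ S₃` with `r₃⁻¹ r₁ r₂ ∈ N ⊓ G_β`: `r₃ = 1` if `r₁ r₂` fixes
`β`, else `k` from `two` with `k • r₁ • β = (r₁ r₂) • β`, `r₃ = k r₁ k⁻¹ ∈ cj k S₁`.  If `S₃ ≠ S₁` then
`r₃⁻¹ r₁ r₂ = r₁ (r₃⁻¹ r₂)` with `Cm S₁ (r₃⁻¹ r₂)`, so `r₁ ∈ proj S₁ (N ⊓ G_β) ≤ G_β` by (1);
else `S₃ ≠ S₂` and the same with `r₂`.  Contradiction.
-/

set_option autoImplicit false
set_option linter.unusedSectionVars false
set_option linter.unusedVariables false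

namespace Cfsg.Agent.Q2

open Subgroup Cfsg Cfsg.Agent.PLocal.Amb
open scoped commutatorElement

open MulAction
open Cfsg.Agent.Perm.Onl (Fac Cm proj)

variable {G Ω : Type*} [Group G] [Finite G] [MulAction G Ω] [FaithfulSMul G Ω] [Finite Ω]
  {α β : Ω}

namespace Sb

variable (h : Sb G α β) {K L N S : Subgroup G}
include h

theorem tr_or (h1 : K ≤ stabilizer G α) (h2 : stabilizer G α ≤ 𝐍[K]) :
    K ≤ stabilizer G β ∨ ∀ g : G, g • α = α → ∃ k ∈ K, k • β = g • β := by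
  refine or_iff_not_imp_left.2 fun c g hg => ?_
  obtain ⟨k₀, hk, hk'⟩ := SetLike.not_le_iff_exists.1 c
  by_cases e : g • β = β
  · exact ⟨1, one_mem _, by rw [one_smul, e]⟩
  obtain ⟨k, a1, a2, a3⟩ := h.two k₀ g (h1 hk) hg hk' e
  refine ⟨k * k₀ * k⁻¹, conj_mem_of_mem_normalizer (h2 a1) hk, ?_⟩
  rw [mul_smul, mul_smul, inv_smul_eq_iff.2 a2.symm, a3]

theorem bot_of_norm (h1 : K ≤ stabilizer G α) (h2 : stabilizer G α ≤ 𝐍[K])
    (h3 : stabilizer G β ≤ 𝐍[K]) : K = ⊥ := by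
  haveI := h.prim
  haveI : Nontrivial Ω := ⟨β, α, h.ne⟩
  have top : 𝐍[K] = ⊤ := by
    by_contra c
    have e1 := ((IsPreprimitive.isCoatom_stabilizer_of_isPreprimitive G α).le_iff_eq c).1 h2
    have e2 := ((IsPreprimitive.isCoatom_stabilizer_of_isPreprimitive G β).le_iff_eq c).1 h3
    obtain ⟨g, g1, g2⟩ := h.mv
    exact g2 (e2.le (e1.ge g1))
  refine eq_bot_iff.2 fun k hk => mem_bot.2 (FaithfulSMul.eq_of_smul_eq_smul (α := Ω) fun ω => ?_)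
  obtain ⟨n, rfl⟩ := exists_smul_eq G α ω
  have := h1 (conj_mem_of_mem_normalizer (top.ge (mem_top n⁻¹)) hk)
  rw [mem_stabilizer_iff, inv_inv, mul_smul, mul_smul, inv_smul_eq_iff] at this
  rw [this, one_smul]

theorem bot_of_cj (h1 : K ≤ stabilizer G α) (h2 : stabilizer G α ≤ 𝐍[K]) {m : G} (hm : m • α = β)
    (h3 : K ≤ cj(m, K)) : K = ⊥ := by
  refine h.bot_of_norm h1 h2 ?_
  have : cj(m, stabilizer G α) ≤ 𝐍[cj(m, K)] := normalizer_cj m K ▸ cj_mono m h2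
  rwa [← eq_of_le_of_card_ge h3 (card_cj m K).le, ← stabilizer_smul_eq_stabilizer_map_conj,
    hm] at this

theorem bot_of_le [L.Normal] (h1 : L ⊓ stabilizer G α ≤ stabilizer G β) :
    L ⊓ stabilizer G α = ⊥ := by
  haveI := h.prim
  obtain ⟨m, hm⟩ := exists_smul_eq G α β
  refine h.bot_of_cj inf_le_right (le_normalizer_inf le_normalizer_of_normal le_normalizer) hm ?_
  rw [cj_inf, cj_of_mem_normalizer (le_normalizer_of_normal (mem_top m)),
    ← stabilizer_smul_eq_stabilizer_map_conj, hm]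
  exact le_inf inf_le_left h1

theorem pa_false (f : Fac N S) (hN : IsPretransitive N Ω) (hne : S ≠ N)
    (h0 : N ⊓ stabilizer G α ≠ ⊥) (hp : proj S (N ⊓ stabilizer G α) ≠ S) : False := by
  haveI := f.normal
  have k1 : ∀ (g : G) (ω : Ω), proj (Perm.Onl.cj g S) (N ⊓ stabilizer G ω) ≤ stabilizer G ω :=
    fun g ω => (f.conj g).proj_le_stab h.prim ω fun e => hp (by
      obtain ⟨q, hq, eq⟩ := f.exists_stab_cj hN α g
      obtain ⟨⟨n, hn⟩, rfl⟩ := hN.exists_smul_eq α ω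
      have e1 : Perm.Onl.cj (n * q) S = Perm.Onl.cj g S := by
        rw [Perm.Onl.cj_mul, eq, (f.conj g).cj_eq hn]
      have e2 : (⟨n, hn⟩ : N) • α = (n * q) • α := by rw [mul_smul, hq]; rfl
      rw [← e1, e2] at e
      generalize n * q = y at e
      refine le_antisymm (Perm.Onl.proj_le _ _) fun s hs => ?_
      obtain ⟨-, c, hc, m1, m2⟩ := e.ge (Perm.Onl.conj_mem_cj hs)
      refine ⟨hs, y⁻¹ * c * y, fun t ht => ?_, ?_⟩
      · have := (hc _ (Perm.Onl.conj_mem_cj ht)).eq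
        change y⁻¹ * c * y * t = t * (y⁻¹ * c * y)
        calc _ = y⁻¹ * (c * (y * t * y⁻¹)) * y := by group
          _ = _ := by rw [this]; group
      · rw [show s * (y⁻¹ * c * y) = y⁻¹ * (y * s * y⁻¹ * c) * y by group]
        refine ⟨f.normal.conj_mem' _ m1 y, ?_⟩
        change _ • α = α
        rw [mul_smul, mul_smul, mem_stabilizer_iff.1 m2, inv_smul_smul])
  obtain ⟨W, hW⟩ : ∃ W, W = ⨆ g, Perm.Onl.cj g S ⊓ stabilizer G α := ⟨_, rfl⟩
  have lW : ∀ g, Perm.Onl.cj g S ⊓ stabilizer G α ≤ W := fun g =>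
    hW ▸ le_iSup (fun g => Perm.Onl.cj g S ⊓ stabilizer G α) g
  have WN : W ≤ N ⊓ stabilizer G α := hW ▸ iSup_le fun g => inf_le_inf_right _ (f.conj g).le
  have nW : stabilizer G α ≤ 𝐍[W] := fun q hq => mem_normalizer_of_cj_le (by
    conv_lhs => rw [hW]
    rw [Subgroup.map_iSup]
    refine iSup_le fun g => le_trans ?_ (lW (q * g))
    rw [cj_inf, cj_of_mem hq, Perm.Onl.cj_mul]
    rfl)
  have k2 : ¬ W ≤ stabilizer G β := fun c => h0 (by
    obtain ⟨⟨m, hm⟩, e⟩ := hN.exists_smul_eq α β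
    replace e : m • α = β := e
    have W0 := h.bot_of_cj (WN.trans inf_le_right) nW e (by
      conv_lhs => rw [hW]
      refine iSup_le fun g x hx => mem_cj.2 (lW g ⟨?_, ?_⟩)
      · simpa using (f.conj g).nrm _ (inv_mem hm) x hx.1
      · change _ • α = α
        rw [mul_smul, mul_smul, e, mem_stabilizer_iff.1 (c (lW g hx)), ← e, inv_smul_smul])
    refine eq_bot_iff.2 fun x hx => mem_bot.2 (Perm.Onl.eq_one_of_cm_of_fix hN (fun t ht => ?_) hx.2)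
    refine (mem_centralizer_singleton_iff.1 (f.le_of_conj_le (W := centralizer {x})
      (fun g t ht => ?_) ht)).symm
    obtain ⟨s, hs, c, -, hc, rfl⟩ := (f.conj g).decomp hx.1
    rw [mem_bot.1 (W0.le (lW g ⟨hs, k1 g α ⟨hs, c, hc, hx⟩⟩)), one_mul]
    exact mem_centralizer_singleton_iff.2 (hc t ht).eq.symm)
  have tr := (h.tr_or (WN.trans inf_le_right) nW).resolve_left k2
  have k3 : ∀ g, ∃ r ∈ Perm.Onl.cj g S ⊓ stabilizer G α, r ∉ stabilizer G β := fun g =>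
    SetLike.not_le_iff_exists.1 fun c => k2 (hW ▸ iSup_le fun g₁ r hr => by
      obtain ⟨q, hq, eq⟩ := (f.conj g₁).exists_stab_cj hN α (g * g₁⁻¹)
      rw [← Perm.Onl.cj_mul (g * g₁⁻¹), inv_mul_cancel_right] at eq
      obtain ⟨w, hw, ew⟩ := tr q hq
      have m1 : q * r * q⁻¹ ∈ Perm.Onl.cj g S := eq ▸ Perm.Onl.conj_mem_cj hr.1
      have := c (mem_inf.2 ⟨(f.conj g).nrm _ (inv_mem (WN hw).1) _ m1,
        conj_mem_of_mem_normalizer (le_normalizer ((stabilizer G α).inv_mem (WN hw).2))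
          (conj_mem_of_mem_normalizer (le_normalizer hq) hr.2)⟩)
      rw [mem_stabilizer_iff, inv_inv, mul_smul, mul_smul, inv_smul_eq_iff, ew, mul_smul, mul_smul,
        inv_smul_smul, smul_left_cancel_iff] at this
      exact this)
  obtain ⟨g, hg⟩ := f.exists_cj_ne hne
  rw [← Perm.Onl.cj_one S, ← Perm.Onl.cj_mul, mul_one] at hg
  obtain ⟨r₁, a1, b1⟩ := k3 1
  obtain ⟨r₂, a2, b2⟩ := k3 g
  obtain ⟨g₃, r₃, a3, b3⟩ : ∃ g₃, ∃ r₃ ∈ Perm.Onl.cj g₃ S, r₃⁻¹ * (r₁ * r₂) ∈ stabilizer G β := by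
    by_cases e : (r₁ * r₂) • β = β
    · exact ⟨1, 1, one_mem _, by simpa using e⟩
    obtain ⟨k, -, c2, c3⟩ := h.two r₁ (r₁ * r₂) a1.2 ((stabilizer G α).mul_mem a1.2 a2.2) b1 e
    refine ⟨k * 1, k * r₁ * k⁻¹, Perm.Onl.cj_mul k 1 S ▸ Perm.Onl.conj_mem_cj a1.1, ?_⟩
    rw [mem_stabilizer_iff, mul_smul, inv_smul_eq_iff, mul_smul (k * r₁), mul_smul k,
      inv_smul_eq_iff.2 c2.symm, c3]
  have m : r₃⁻¹ * (r₁ * r₂) ∈ N ⊓ stabilizer G β := ⟨N.mul_mem (N.inv_mem ((f.conj g₃).le a3))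
    (N.mul_mem ((f.conj 1).le a1.1) ((f.conj g).le a2.1)), b3⟩
  by_cases e : Perm.Onl.cj g₃ S = Perm.Onl.cj 1 S
  · have c := ((f.conj g).cm_of_ne (f.conj g₃) (e ▸ hg.symm) a3).inv.mul
      ((f.conj g).cm_of_ne (f.conj 1) hg.symm a1.1)
    exact b2 (k1 g β ⟨a2.1, _, c, by rwa [← (c r₂ a2.1).eq, mul_assoc]⟩)
  · have c := ((f.conj 1).cm_of_ne (f.conj g₃) e a3).inv
    exact b1 (k1 1 β ⟨a1.1, _, c.mul ((f.conj 1).cm_of_ne (f.conj g) hg a2.1), by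
      rwa [← mul_assoc, ← (c r₁ a1.1).eq, mul_assoc]⟩)

end Sb

end Cfsg.Agent.Q2
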