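import Mathlib
import Cfsg.Agent.Q2.ODefs

/-!
S3617, O'Nan–Scott reduction: subdirect subgroups of `N C(N)`.
API: `Cfsg/Agent/Perm/Onl.lean` (`Fac`, `Cm`, `proj`; its `cj g S` is `cj(g, S)` by `rfl`, `cj_eq_cj`).

`coord`: `d = n c` (`N` normal: `mem_sup_of_normal_left`/`mul_normal`), `n = s c'` (`Fac.decomp`).
`proj_cj`: `mem_proj`, conjugate.
`proj_cases`: `R = proj S J` is normalised by `S`: for `s ∈ S = proj S D`, `s c ∈ D`, `t ∈ R`, `t c' ∈ J`: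
`(s c) (t c') (s c)⁻¹ = (s t s⁻¹) (c c' c⁻¹) ∈ J`.  `Fac.normal_eq`: `R = S`, or `R = ⊥` and then every
`x = s c ∈ J` (`coord`) has `s ∈ R`, `s = 1`.
`le_sup_cent`: `d = s c ∈ D`, `s c' ∈ J`; `d = (s c') * (c'⁻¹ c)`, and `c'⁻¹ c = (s c')⁻¹ d ∈ D ⊓ 𝐂[S]`.
`proj_comm`: `proj S ⁅J, J⁆` is normalised by `S` (`proj_cases` with `D = J`); it is not `⊥`/centralising:
`a, b ∈ S` not commuting (`exists_not_comm`), `a c, b d ∈ J`, `⁅a c, b d⁆ = ⁅a, b⁆ ⁅c, d⁆` would centralise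
`S`, so `⁅a, b⁆ = 1` (`eq_one_of_cm`).
`sub_eq`: choose `J` minimal (finite lattice, `exists_minimal_of_wellFoundedLT` or minimal card) among
`J ≤ D`, `D ≤ 𝐍[J]`, `D ≤ D₁ ⊔ J` (`J = D` qualifies).  Let `S' = cj g S`, `K = D ⊓ 𝐂[S']` (normalised by `D`,
as `D ≤ N ⊔ 𝐂[N]` normalises `S'`).  Claim `J ≤ K`.  Else `proj S' J = S'` (`proj_cases`), so
`proj S' ⁅J, J⁆ = S'` and `J ≤ ⁅J, J⁆ ⊔ (J ⊓ 𝐂[S'])` (`le_sup_cent` with `D := J`).  Also `D ≤ D₁ ⊔ K`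
(`le_sup_cent`), so for `x, y ∈ J`, `y = d k` (`d ∈ D₁`, `k ∈ K`; `D₁` is normalised by `K`),
`⁅x, y⁆ = ⁅x, d⁆ * d ⁅x, k⁆ d⁻¹ ∈ D₁ ⊔ (J ⊓ K)` (`⁅x, k⁆ ∈ J ⊓ K`).  Hence `D ≤ D₁ ⊔ (J ⊓ K)` and by
minimality `J ⊓ K = J`.  So `J` centralises all `cj g S`, hence `N` (`le_of_conj_le` with `W = 𝐂[J]`):
`J ≤ D ⊓ 𝐂[N] = ⊥`, `D ≤ D₁`.
`min_normal`: let `K ≠ ⊥`.  `K` does not centralise `N` (`hc`), so not some `S₀ = cj g₀ S`.  Every `cj g S` is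
`cj q S = cj q' S₀` with `q, q' ∈ A` (`exists_stab_cj`, `Fac.conj`, `cj_mul`); `proj (cj q S) D = cj q S` by
`proj_cj` (`cj(q, D) = D`).  `proj S₀ K = S₀` (`proj_cases`), so `proj (cj g S) K = cj g S` for all `g`
(`proj_cj`, `cj(q', K) = K`), and `sub_eq` gives `K = D`.
-/

set_option autoImplicit false
set_option linter.unusedSectionVars false
set_option linter.unusedVariables false

namespace Cfsg.Agent.Q2

open Subgroup Cfsg Cfsg.Agent.PLocal.Amb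
open scoped commutatorElement

open MulAction
open Cfsg.Agent.Perm.Onl (Fac Cm proj cm_iff mem_proj proj_le proj_mono)

variable {G : Type*} [Group G] [Finite G] {N S D J D₁ K : Subgroup G}

theorem coord (f : Fac N S) {d : G} (hd : d ∈ N ⊔ 𝐂[N]) : ∃ s ∈ S, ∃ c, Cm S c ∧ d = s * c := by
  obtain ⟨n, hn, c, hc, rfl⟩ := (mem_sup_of_le_normalizer_left (centralizer_le_normalizer' N)).1 hd
  obtain ⟨s, hs, c', -, h', rfl⟩ := f.decomp hn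
  exact ⟨s, hs, c' * c, h'.mul (cm_iff.2 (centralizer_anti f.le hc)), mul_assoc _ _ _⟩

theorem proj_cj (g : G) (S D : Subgroup G) : proj cj(g, S) cj(g, D) = cj(g, proj S D) := by
  ext x
  simp only [mem_cj, mem_proj, cm_iff, centralizer_cj]
  exact and_congr_right' ⟨fun ⟨c, a, b⟩ => ⟨g⁻¹ * c * g, a, by simpa [mul_assoc] using b⟩,
    fun ⟨c, a, b⟩ => ⟨g * c * g⁻¹, by simpa [mul_assoc] using a, by simpa [mul_assoc] using b⟩⟩

theorem proj_cases (f : Fac N S) (hD : D ≤ N ⊔ 𝐂[N]) (hp : proj S D = S) (h1 : J ≤ D)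
    (h2 : D ≤ 𝐍[J]) : J ≤ 𝐂[S] ∨ proj S J = S := by
  refine (f.normal_eq (proj_le S J) fun s hs t ⟨ht, c', hc', k⟩ => ?_).imp_left fun e x hx => ?_
  · obtain ⟨-, c, hc, k'⟩ := hp.ge hs
    refine ⟨mul_mem (mul_mem hs ht) (inv_mem hs), c * c' * c⁻¹, (hc.mul hc').mul hc.inv, ?_⟩
    have : s * t * s⁻¹ * (c * c' * c⁻¹) = s * c * (t * c') * (s * c)⁻¹ :=
      calc _ = s * t * (c * c' * c⁻¹ * s⁻¹) := by rw [mul_assoc (s * t), ← (((hc.mul hc').mul hc.inv) _ (inv_mem hs)).eq]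
        _ = s * (t * c) * c' * c⁻¹ * s⁻¹ := by group
        _ = _ := by rw [← (hc t ht).eq]; group
    exact this ▸ conj_mem_of_mem_normalizer (h2 k') k
  · obtain ⟨s, hs, c, hc, rfl⟩ := coord f (hD (h1 hx))
    rw [mem_bot.1 (e.le ⟨hs, c, hc, hx⟩), one_mul]
    exact cm_iff.1 hc

theorem le_sup_cent (f : Fac N S) (hD : D ≤ N ⊔ 𝐂[N]) (h1 : J ≤ D) (hp : proj S J = S) {d : G}
    (hd : d ∈ D) : ∃ x ∈ J, ∃ k ∈ D ⊓ 𝐂[S], d = x * k := by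
  obtain ⟨s, hs, c, hc, rfl⟩ := coord f (hD hd)
  obtain ⟨-, c', hc', k⟩ := hp.ge hs
  exact ⟨s * c', k, c'⁻¹ * c, mem_inf.2 ⟨by simpa [mul_assoc] using mul_mem (inv_mem (h1 k)) hd,
    cm_iff.1 (hc'.inv.mul hc)⟩, by group⟩

theorem proj_comm (f : Fac N S) (hJ : J ≤ N ⊔ 𝐂[N]) (hp : proj S J = S) : proj S ⁅J, J⁆ = S := by
  refine (proj_cases f hJ hp (commutator_le_self J) (le_normalizer_commutator le_normalizer le_normalizer)).resolve_left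
    fun k => ?_
  obtain ⟨a, ha, b, hb, n⟩ := f.exists_not_comm
  obtain ⟨-, c, hc, k1⟩ := hp.ge ha
  obtain ⟨-, d, hd, k2⟩ := hp.ge hb
  have e := map_commutatorElement (S.subtype.noncommCoprod (𝐂[S]).subtype fun s c => c.2 s s.2)
    (⟨a, ha⟩, ⟨c, cm_iff.1 hc⟩) (⟨b, hb⟩, ⟨d, cm_iff.1 hd⟩)
  change ⁅a, b⁆ * ⁅c, d⁆ = ⁅a * c, b * d⁆ at e
  refine n (commutatorElement_eq_one_iff_commute.1 (f.eq_one_of_cm
    (commutator_le_self S (commutator_mem_commutator ha hb)) (cm_iff.2 ?_)))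
  exact (mul_mem_cancel_right (commutator_le_self _ (commutator_mem_commutator (cm_iff.1 hc) (cm_iff.1 hd)))).1
    (e ▸ k (commutator_mem_commutator k1 k2))

theorem sub_eq (f : Fac N S) (hD : D ≤ N ⊔ 𝐂[N]) (hc : D ⊓ 𝐂[N] = ⊥) (h1 : D₁ ≤ D)
    (h2 : D ≤ 𝐍[D₁]) (hp : ∀ g : G, proj cj(g, S) D₁ = cj(g, S)) : D₁ = D := by
  obtain ⟨J, hJ⟩ := exists_minimal_of_wellFoundedLT (fun J => J ≤ D ∧ D ≤ 𝐍[J] ∧ D ≤ D₁ ⊔ J)
    ⟨D, le_rfl, le_normalizer, le_sup_right⟩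
  obtain ⟨j1, j2, j3⟩ := hJ.prop
  have key : ∀ g, J ≤ 𝐂[cj(g, S)] := fun g => by
    have f' : Fac N cj(g, S) := f.conj g
    have hp := hp g
    generalize cj(g, S) = S at f' hp
    refine (proj_cases f' hD (le_antisymm (proj_le _ _) (hp.ge.trans (proj_mono _ h1))) j1 j2).elim id fun e => ?_
    have n : D ≤ 𝐍[𝐂[S]] := fun d hd => by
      obtain ⟨s, hs, c, hc, rfl⟩ := coord f' (hD hd)
      exact mul_mem (normalizer_le_normalizer_centralizer S (le_normalizer hs)) (le_normalizer (cm_iff.1 hc))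
    have c : ⁅J, J⁆ ≤ D₁ ⊔ J ⊓ 𝐂[S] := commutator_le.2 fun x hx y hy => by
      obtain ⟨d, hd, k, hk, rfl⟩ := le_sup_cent f' hD h1 hp (j1 hy)
      rw [show ⁅x, d * k⁆ = x * d * x⁻¹ * (x * k * x⁻¹ * k⁻¹) * d⁻¹ by rw [commutatorElement_def]; group]
      refine mul_mem (mul_mem (mem_sup_left (conj_mem_of_mem_normalizer (h2 (j1 hx)) hd)) (mem_sup_right (mem_inf.2
        ⟨?_, mul_mem (conj_mem_of_mem_normalizer (n (j1 hx)) (mem_inf.1 hk).2) (inv_mem (mem_inf.1 hk).2)⟩)))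
        (mem_sup_left (inv_mem hd))
      simpa only [mul_assoc] using mul_mem hx (conj_mem_of_mem_normalizer (j2 hk.1) (inv_mem hx))
    refine (hJ.le_of_le ⟨inf_le_left.trans j1, le_normalizer_inf j2 n, j3.trans (sup_le le_sup_left fun x hx => ?_)⟩
      inf_le_left).trans inf_le_right
    obtain ⟨y, hy, k, hk, rfl⟩ := le_sup_cent f' (j1.trans hD) (commutator_le_self J) (proj_comm f' (j1.trans hD) e) hx
    exact mul_mem (c hy) (mem_sup_right hk)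
  have : J ≤ ⊥ := (le_inf j1 (le_centralizer_iff.1 (f.le_of_conj_le fun g => le_centralizer_iff.1 (key g)))).trans hc.le
  exact le_antisymm h1 (j3.trans (sup_le le_rfl (this.trans bot_le)))

theorem proj_all {Ω : Type*} [MulAction G Ω] (f : Fac N S) (hN : IsPretransitive N Ω) {α : Ω}
    (h2 : stabilizer G α ≤ 𝐍[D]) (hp : proj S D = S) (g : G) : proj cj(g, S) D = cj(g, S) := by
  obtain ⟨q, hq, e⟩ := f.exists_stab_cj hN α g
  rw [← cj_eq_cj, ← e, cj_eq_cj, ← cj_of_mem_normalizer (h2 hq), proj_cj, hp]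

theorem min_normal {Ω : Type*} [MulAction G Ω] (f : Fac N S) (hN : IsPretransitive N Ω) {α : Ω}
    (hD : D ≤ N ⊔ 𝐂[N]) (hc : D ⊓ 𝐂[N] = ⊥) (h1 : D ≤ stabilizer G α)
    (h2 : stabilizer G α ≤ 𝐍[D]) (hp : proj S D = S) (hK : K ≤ D)
    (hn : stabilizer G α ≤ 𝐍[K]) : K = ⊥ ∨ K = D := by
  by_cases c : ∀ g, K ≤ 𝐂[cj(g, S)]
  · exact .inl (le_bot_iff.1 ((le_inf hK (le_centralizer_iff.1 (f.le_of_conj_le fun g =>
      le_centralizer_iff.1 (c g)))).trans hc.le))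
  obtain ⟨g, c⟩ := not_forall.1 c
  have f' : Fac N cj(g, S) := f.conj g
  exact .inr (sub_eq f' hD hc hK (h1.trans hn) (proj_all f' hN hn
    ((proj_cases f' hD (proj_all f hN h2 hp g) hK (h1.trans hn)).resolve_left c)))

end Cfsg.Agent.Q2
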