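import Mathlib
import Cfsg.Agent.Q2.TDefs
import Cfsg.Agent.S0215

/-!
S3617: first properties of `W β = Wt T β = C_T(T_β)` (`T_β = T ⊓ stabilizer X β`).

`cj_st`, `cj_Wt`, `cj_Ht`: `T` is normal, `cj(g, stabilizer β) = stabilizer (g • β)`, `centralizer_cj`.
`cent_eq`: `K = T ⊓ C(y)` lies between `T_β` and `T`; by `mx` `K = T_β` or `K = T`. If `K = T` then
`zpowers y ≤ T` is centralised (so normalised) by `T`, non-trivial, so `= T` by `smp`; then `T` is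
commutative, against `nc`.
`Wt_fix`: `y ≠ 1` lies in `T ⊓ C(y) = T_β`.  `Wt_comm`: `y, z ∈ W β`, `z ∈ T_β`, so `y` commutes with it.
`eq_of_fix`: let `y • γ = γ`, `γ ≠ β`. Then `y ∈ T_γ`, so `W γ ≤ T ⊓ C(y) = T_β`.  For `δ ≠ β` take `g`
with `g • β = β`, `g • γ = δ` (`two`): `W δ = cj(g, W γ) ≤ cj(g, T_β) = T_β`; also `W β ≤ T_β`.
`K = ⨆ δ, W δ ≤ T_β` is normalised by every `g` (`cj_Wt`), `y ∈ K ≤ T`, so `K = T` (`smp`), `T` fixes `β`,
against `tr`, `nt`.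
`sq`: let `y ≠ 1`, `y * y = 1`.  In the group `↥T` take a Sylow 2-subgroup `P ∋ y`.  `zpowers y` fixes
exactly `β`, so `|Γ|` is odd (`IsPGroup.card_modEq_card_fixedPoints`), so `P` fixes a point
(`IsPGroup.nonempty_fixed_point_of_prime_not_dvd_card`), which is `β` (`eq_of_fix`).  If `g ∈ T` and
`y' = g y g⁻¹ ∈ P`, then `y' ∈ W (g • β)` fixes `β`, so `g • β = β`, `g ∈ T_β` centralises `y`, `y' = y`.
`S0215.result` (Z*) gives `N ⊴ ↥T` of odd order containing all `y g y⁻¹ g⁻¹`; `N.map T.subtype = ⊥` or `T`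
(`smp`): `⊥` makes `T ≤ C(y)`, so `T = T_β` (`cent_eq`), against `tr`, `nt`; `T` makes `|T|` odd although
`y ∈ T` has order 2.
-/

set_option autoImplicit false
set_option linter.unusedSectionVars false
set_option linter.unusedVariables false

namespace Cfsg.Agent.Q2

open Subgroup Cfsg Cfsg.Agent.PLocal.Amb
open scoped commutatorElement

open MulAction

variable {X Γ : Type*} [Group X] [Finite X] [MulAction X Γ] [Finite Γ] {T : Subgroup X}

namespace TT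

variable (h : TT Γ T) {β γ : Γ} {y : X}
include h

theorem cj_st (g : X) (β : Γ) : cj(g, T ⊓ stabilizer X β) = T ⊓ stabilizer X (g • β) := by
  have := h.nrm
  rw [cj_inf, cj_of_normal]
  congr 1
  ext x
  rw [mem_cj, mem_stabilizer_iff, mem_stabilizer_iff, mul_smul, mul_smul, inv_smul_eq_iff]

theorem cj_Wt (g : X) (β : Γ) : cj(g, Wt T β) = Wt T (g • β) := by
  have := h.nrm
  rw [Wt, Wt, cj_inf, cj_of_normal, ← centralizer_cj, h.cj_st]

theorem cj_Ht (g : X) (β γ : Γ) : cj(g, Ht T β γ) = Ht T (g • β) (g • γ) := by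
  have := h.nrm
  have e : ∀ a b : Γ, Ht T a b = (T ⊓ stabilizer X a) ⊓ (T ⊓ stabilizer X b) := fun a b =>
    le_antisymm (fun x hx => ⟨hx.1, hx.1.1, hx.2⟩) fun x hx => ⟨hx.1, hx.2.2⟩
  rw [e, e, cj_inf, h.cj_st, h.cj_st]

theorem cent_eq (hy : y ∈ Wt T β) (h1 : y ≠ 1) :
    T ⊓ centralizer ({y} : Set X) = T ⊓ stabilizer X β := by
  refine (h.mx β _ (fun t ht => mem_inf.2 ⟨ht.1, mem_centralizer_singleton_iff.2 (hy.2 t ht)⟩) inf_le_left).resolve_right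
    fun e => ?_
  have c : T ≤ 𝐂[zpowers y] := by
    rw [centralizer_zpowers]
    exact e.ge.trans inf_le_right
  rcases h.smp _ (zpowers_le.2 hy.1) (c.trans (centralizer_le_normalizer' _)) with k | k
  · exact h1 (zpowers_eq_bot.1 k)
  · exact h.nc (k ▸ c)

theorem Wt_fix (hy : y ∈ Wt T β) : y • β = β := by
  by_cases h1 : y = 1
  · rw [h1, one_smul]
  exact ((h.cent_eq hy h1).le ⟨hy.1, mem_centralizer_singleton_iff.2 rfl⟩).2

theorem Wt_comm (β : Γ) : Wt T β ≤ 𝐂[Wt T β] := by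
  exact fun y hy z hz => hy.2 z ⟨hz.1, h.Wt_fix hz⟩

theorem eq_of_fix (hy : y ∈ Wt T β) (h1 : y ≠ 1) (hγ : y • γ = γ) : γ = β := by
  by_contra ne
  have k1 : Wt T γ ≤ T ⊓ stabilizer X β := fun z hz =>
    (h.cent_eq hy h1).le ⟨hz.1, mem_centralizer_singleton_iff.2 (hz.2 y ⟨hy.1, hγ⟩).symm⟩
  have k2 : ∀ δ : Γ, Wt T δ ≤ T ⊓ stabilizer X β := fun δ => by
    by_cases e : δ = β
    · exact e ▸ fun z hz => ⟨hz.1, h.Wt_fix hz⟩
    obtain ⟨g, g1, g2⟩ := h.two β γ β δ (Ne.symm ne) (Ne.symm e)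
    have := cj_mono g k1
    rwa [h.cj_Wt, h.cj_st, g1, g2] at this
  rcases h.smp (⨆ δ : Γ, Wt T δ) (iSup_le fun δ => inf_le_left) (le_normalizer_iff_cj.2 fun g _ => by
    rw [cj_iSup]
    exact iSup_le fun δ => (h.cj_Wt g δ).le.trans (le_iSup (fun δ : Γ => Wt T δ) _)) with k | k
  · exact h1 (mem_bot.1 (k.le (le_iSup (fun δ : Γ => Wt T δ) β hy)))
  · obtain ⟨b, hb⟩ := h.nt β
    obtain ⟨t, ht, e⟩ := h.tr β b
    exact hb (e.symm.trans ((k.ge.trans (iSup_le k2)) ht).2)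

theorem sq (hy : y ∈ Wt T β) (h2 : y * y = 1) : y = 1 := by
  by_contra h1
  have := h.nrm
  have : Fact (Nat.Prime 2) := ⟨Nat.prime_two⟩
  let u : T := ⟨y, hy.1⟩
  have ou : orderOf u = 2 := orderOf_eq_prime (Subtype.ext (by rw [pow_two]; exact h2))
    fun e => h1 (congrArg Subtype.val e)
  have pu : IsPGroup 2 (zpowers u) := IsPGroup.of_card (n := 1) (by rw [Nat.card_zpowers, ou, pow_one])
  obtain ⟨P, hP⟩ := pu.exists_le_sylow
  have f1 : fixedPoints (zpowers u) Γ = {β} := Set.ext fun b => ⟨fun hb => h.eq_of_fix hy h1 (hb ⟨u, mem_zpowers u⟩),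
    fun hb g => hb ▸ (show zpowers u ≤ stabilizer T β from zpowers_le.2 (h.Wt_fix hy)) g.2⟩
  have m := pu.card_modEq_card_fixedPoints Γ
  rw [f1, Nat.card_unique (α := ({β} : Set Γ))] at m
  obtain ⟨b, hb⟩ := P.2.nonempty_fixed_point_of_prime_not_dvd_card Γ fun d => by
    have := (Nat.modEq_zero_iff_dvd.2 d).symm.trans m
    exact absurd this (by decide)
  obtain rfl : b = β := h.eq_of_fix hy h1 (hb ⟨u, hP (mem_zpowers u)⟩)
  obtain ⟨N, nN, o, c⟩ := S0215.result P u ou (hP (mem_zpowers u)) fun g hg => by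
    have k1 : (g : X) * y * (g : X)⁻¹ ∈ Wt T ((g : X) • b) := h.cj_Wt g b ▸ conj_mem_cj _ hy
    have k2 := h.eq_of_fix k1 (fun e => h1 (by simpa using e)) (hb ⟨_, hg⟩)
    exact Subtype.ext (mul_inv_eq_iff_eq_mul.2 (hy.2 g ⟨g.2, k2.symm⟩))
  rcases h.smp (N.map T.subtype) (map_subtype_le N) (le_normalizer_iff_cj.2 fun g hg => cj_le_iff_forall.2 (by
    rintro _ ⟨x, hx, rfl⟩
    exact ⟨_, nN.conj_mem x hx ⟨g, hg⟩, rfl⟩)) with k | k
  · obtain ⟨a, ha⟩ := h.nt b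
    obtain ⟨t, ht, e⟩ := h.tr b a
    have k1 : y * t * y⁻¹ * t⁻¹ = 1 := mem_bot.1 (k.le ⟨_, c ⟨t, ht⟩, rfl⟩)
    rw [mul_inv_eq_one, mul_inv_eq_iff_eq_mul] at k1
    exact ha (e.symm.trans ((h.cent_eq hy h1).le ⟨ht, mem_centralizer_singleton_iff.2 k1.symm⟩).2)
  · obtain ⟨x, hx, e⟩ := k.ge hy.1
    obtain rfl : x = u := Subtype.ext e
    exact (Nat.not_even_iff_odd.2 o) (even_iff_two_dvd.2 (ou ▸ Subgroup.orderOf_dvd_natCard N hx))

end TT

end Cfsg.Agent.Q2
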