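import Mathlib
import Cfsg.Agent.Q2.TDefs
import Cfsg.Agent.S4252
import Cfsg.Agent.S0035
import Cfsg.Agent.S0054
import Cfsg.Agent.S0041

/-!
S3617: a normal subgroup `F` of a 2-transitive group which is a Frobenius group modulo the kernel.

Proof of `frob_reg`.  `φ = MulAction.toPermHom M Δ`, `M' = φ.range`, `F' = F.map φ.rangeRestrict ⊴ M'`
(or work with subgroups of `Equiv.Perm Δ`); `M'` is faithful and 2-transitive.
`F` is transitive: the `F`-orbit of `γ` contains `y • γ ≠ γ`; for `a ≠ b` take `g` with `g • γ = a`,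
`g • y • γ = b`; then `g y g⁻¹ ∈ F` maps `a` to `b`.
`S4252.result` for `↥F'` on `Δ` (non-regular: image of `y`; `h2`: only 1 fixes two points) and
`S0035.result` give `N ≤ ↥F'` with carrier `{g = 1 ∨ g fixed point free}` and `IsComplement' N (stabilizer β)`,
so `N` is transitive (`g = n s`) and regular.  Put
`K = {x ∈ F | (∀ c, x • c = c) ∨ ∀ c, x • c ≠ c}` (a subgroup: the preimage of `N`); it is normal in `M`
by its definition.  `K' = K.map φ.rangeRestrict ⊴ M'` is transitive and regular, so `S0054.result`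
(`IsMultiplyPretransitive _ _ 2` from `two`: `MulAction.is_two_pretransitive_iff`) gives `K'` commutative
and `r` with `n ^ r = 1` on `K'`.
`cop`: `K'` is an `r`-group without fixed point on `Δ`, so `r ∣ |Δ|`
(`IsPGroup.card_modEq_card_fixedPoints`); if `y ∈ F` fixes `a`, `y ^ r` acts trivially and `y` does not,
then `zpowers (φ y)` is an `r`-group with the unique fixed point `a` (`h2`), so `|Δ| ≡ 1 mod r`.
`cyc`: `A' = A.map φ.rangeRestrict ≅ A` (`φ` is injective on `A`), commutative, normalises `V = K' ≠ ⊥`;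
if `1 ≠ a' ∈ A'` commutes with `v ∈ K'` then `a'` fixes `β` and `v • β`, so `v • β = β` (`h2`) and `v = 1`.
`S0041.result` gives `IsCyclic A'`.
-/

set_option autoImplicit false
set_option linter.unusedSectionVars false
set_option linter.unusedVariables false

namespace Cfsg.Agent.Q2

open Subgroup Cfsg Cfsg.Agent.PLocal.Amb
open scoped commutatorElement

open MulAction

private theorem frob_faith {M Δ : Type*} [Group M] [Finite M] [MulAction M Δ] [Finite Δ] (two : Two M Δ)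
    (F : Subgroup M) [hF : F.Normal]
    (h2 : ∀ x ∈ F, x ≠ 1 → ∀ a b : Δ, x • a = a → x • b = b → a = b)
    {β γ : Δ} {y : M} (hy : y ∈ F) (hβ : y • β = β) (hγ : y • γ ≠ γ) :
    ∃ (r : ℕ) (K : Subgroup M), r.Prime ∧ K.Normal ∧ K ≤ F ∧ (∀ x ∈ K, x ^ r = 1) ∧
      (∀ a b : Δ, ∃ k ∈ K, k • a = b) ∧ (∀ x ∈ K, ∀ a : Δ, x • a = a → x = 1) ∧
      (∀ x ∈ F, ∀ a : Δ, x • a = a → x ^ r = 1 → x = 1) ∧
      (∀ A : Subgroup M, A ≤ F → A ≤ stabilizer M β → A ≤ 𝐂[A] → IsCyclic A) := by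
  have := Fintype.ofFinite Δ
  have : Nonempty Δ := ⟨β⟩
  have y1 : y ≠ 1 := fun e => hγ (by rw [e, one_smul])
  have tF : ∀ a b : Δ, ∃ f : F, f • a = b := fun a b => by
    by_cases e : a = b
    · exact ⟨1, by rw [one_smul, e]⟩
    · obtain ⟨g, h1, h3⟩ := two γ (y • γ) a b hγ.symm e
      refine ⟨⟨g * y * g⁻¹, hF.conj_mem y hy g⟩, ?_⟩
      change (g * y * g⁻¹) • a = b
      rw [← h1, mul_smul, inv_smul_smul, mul_smul, h3]
  obtain ⟨c1, c2⟩ := S4252.result (G := F) (Ω := Δ) (Fintype.one_lt_card_iff.2 ⟨_, _, hγ⟩) tF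
    ⟨⟨y, hy⟩, fun e => y1 (congrArg Subtype.val e), β, hβ⟩
    (fun g hg a b => h2 g g.2 (fun e => hg (Subtype.ext e)) a b) β
  obtain ⟨N, hN, -, hc⟩ := S0035.result _ c1
  rw [c2] at hN
  have mK : ∀ x, x ∈ N.map F.subtype ↔ x ∈ F ∧ (x = 1 ∨ ∀ c : Δ, x • c ≠ c) := fun x => by
    constructor
    · rintro ⟨n, hn, rfl⟩
      have : n ∈ (N : Set F) := hn
      rw [hN] at this
      exact ⟨n.2, this.imp_left fun e => congrArg Subtype.val e⟩
    · rintro ⟨h1, h3⟩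
      refine ⟨⟨x, h1⟩, ?_, rfl⟩
      rw [hN]
      exact h3.imp_left fun e => Subtype.ext e
  have t0 : ∀ b : Δ, ∃ k ∈ N.map F.subtype, k • β = b := fun b => by
    obtain ⟨f, hf⟩ := tF β b
    obtain ⟨⟨n, s⟩, e⟩ := (hc.existsUnique f).exists
    refine ⟨_, ⟨n, n.2, rfl⟩, ?_⟩
    have e' : (n : F) * (s : F) = f := e
    rw [← hf, ← e', mul_smul, mem_stabilizer_iff.1 s.2]
    rfl
  generalize N.map F.subtype = K at mK t0
  have nK : K.Normal := ⟨fun x hx g => by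
    obtain ⟨h1, h3⟩ := (mK x).1 hx
    refine (mK _).2 ⟨hF.conj_mem x h1 g, h3.imp (fun e => by rw [e]; group) fun k c e => k (g⁻¹ • c) ?_⟩
    rw [eq_inv_smul_iff, ← mul_smul, ← mul_smul, e]⟩
  have tK : ∀ a b : Δ, ∃ k ∈ K, k • a = b := fun a b => by
    obtain ⟨k, hk, rfl⟩ := t0 a
    obtain ⟨l, hl, rfl⟩ := t0 b
    exact ⟨l * k⁻¹, mul_mem hl (inv_mem hk), by rw [mul_smul, inv_smul_smul]⟩
  have rK : ∀ x ∈ K, ∀ a : Δ, x • a = a → x = 1 := fun x hx a e =>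
    ((mK x).1 hx).2.resolve_right fun k => k a e
  obtain ⟨cm, r, hr, pw⟩ := S0054.result (is_two_pretransitive_iff.2 fun h1 h3 => two _ _ _ _ h1 h3) K
    ⟨fun a b => by
      obtain ⟨k, hk, e⟩ := tK a b
      exact ⟨⟨k, hk⟩, e⟩⟩ fun a => eq_bot_iff.2 fun x hx => Subtype.ext (rK x x.2 a hx)
  have K1 : K ≠ ⊥ := fun e => by
    obtain ⟨k, hk, e'⟩ := tK (y • γ) γ
    rw [e, mem_bot] at hk
    exact hγ (by rwa [hk, one_smul] at e')
  have fpf : ∀ x ∈ F, x ≠ 1 → ∀ a : Δ, x • a = a → K ⊓ centralizer {x} = ⊥ := fun x hx h1 a e =>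
    eq_bot_iff.2 fun v hv => rK v hv.1 a (h2 x hx h1 _ _ (by
      rw [← mul_smul, ← mem_centralizer_singleton_iff.1 hv.2, mul_smul, e]) e)
  have := Fact.mk hr
  refine ⟨r, K, hr, nK, fun x hx => ((mK x).1 hx).1, pw, tK, rK, fun x hx a e h1 => ?_,
    fun A h1 h3 h4 => ?_⟩
  · by_contra h0
    refine inf_centralizer_ne_bot (p := r) (T := zpowers x) (isPGroup_zpowers ⟨1, by rwa [pow_one]⟩)
      (isPGroup_iff.2 fun v hv => ⟨1, by rw [pow_one, pw v hv]⟩) le_normalizer_of_normal K1 ?_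
    rw [centralizer_zpowers, fpf x hx h0 a e]
  · exact S0041.result A K K1 le_normalizer_of_normal (fun a ha h0 => fpf a (h1 ha) h0 β (h3 ha))
      (Or.inl (le_centralizer_iff_isMulCommutative.1 h4))

theorem frob_reg {M Δ : Type*} [Group M] [Finite M] [MulAction M Δ] [Finite Δ] (two : Two M Δ)
    (F : Subgroup M) [F.Normal]
    (h2 : ∀ x ∈ F, ∀ a b : Δ, a ≠ b → x • a = a → x • b = b → ∀ c : Δ, x • c = c)
    {β γ : Δ} {y : M} (hy : y ∈ F) (hβ : y • β = β) (hγ : y • γ ≠ γ) :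
    ∃ (r : ℕ) (K : Subgroup M), r.Prime ∧ K.Normal ∧ K ≤ F ∧
      (∀ x ∈ F, (∀ c : Δ, x • c = c) → x ∈ K) ∧
      (∀ x ∈ K, ∀ c : Δ, x ^ r • c = c) ∧
      (∀ a b : Δ, ∃ k ∈ K, k • a = b) ∧
      (∀ x ∈ K, ∀ a : Δ, x • a = a → ∀ c : Δ, x • c = c) ∧
      (∀ x ∈ F, ∀ a : Δ, x • a = a → (∀ c : Δ, x ^ r • c = c) → ∀ c : Δ, x • c = c) ∧
      (∀ A : Subgroup M, A ≤ F → A ≤ stabilizer M β → A ≤ 𝐂[A] →
        (∀ x ∈ A, (∀ c : Δ, x • c = c) → x = 1) → IsCyclic A) := by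
  let φ := (toPermHom M Δ).rangeRestrict
  have sφ : Function.Surjective φ := (toPermHom M Δ).rangeRestrict_surjective
  have e1 : ∀ (x : M) (c : Δ), φ x • c = x • c := fun _ _ => rfl
  have e2 : ∀ x : M, φ x = 1 ↔ ∀ c : Δ, x • c = c := fun x =>
    ⟨fun e c => by rw [← e1, e, one_smul], fun k => Subtype.ext (Equiv.ext k)⟩
  have := Subgroup.Normal.map inferInstance φ sφ (H := F)
  obtain ⟨r, K, hr, nK, KF, pw, tK, rK, cop, cyc⟩ := frob_faith (M := (toPermHom M Δ).range) (Δ := Δ)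
    (fun a b c d h1 h3 => by
      obtain ⟨g, k⟩ := two a b c d h1 h3
      exact ⟨φ g, k⟩) (F.map φ) (by
      rintro _ ⟨x, hx, rfl⟩ h1 a b ha hb
      by_contra h0
      exact h1 ((e2 x).2 (h2 x hx a b h0 ha hb))) (mem_map_of_mem φ hy) hβ hγ
  refine ⟨r, K.comap φ ⊓ F, hr, inferInstance, inf_le_right,
    fun x hx k => ⟨mem_comap.2 (by rw [(e2 x).2 k]; exact one_mem _), hx⟩,
    fun x hx => (e2 _).1 (by rw [map_pow, pw _ hx.1]), fun a b => ?_,
    fun x hx a e => (e2 x).1 (rK _ hx.1 a e),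
    fun x hx a e k => (e2 x).1 (cop _ (mem_map_of_mem φ hx) a e (by rw [← map_pow]; exact (e2 _).2 k)),
    fun A h1 h3 h4 h5 => ?_⟩
  · obtain ⟨k, hk, e⟩ := tK a b
    obtain ⟨x, hx, rfl⟩ := KF hk
    exact ⟨x, ⟨hk, hx⟩, e⟩
  · have := cyc (A.map φ) (map_mono h1) (by rintro _ ⟨x, hx, rfl⟩; exact h3 hx) (by
      rintro _ ⟨x, hx, rfl⟩ _ ⟨z, hz, rfl⟩
      rw [← map_mul, ← map_mul, h4 hx z hz])
    refine isCyclic_of_injective (φ.subgroupMap A) ((injective_iff_map_eq_one _).2 fun x hx => ?_)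
    exact Subtype.ext (h5 x x.2 ((e2 x).1 (congrArg Subtype.val hx)))

end Cfsg.Agent.Q2
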