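import Mathlib
import Cfsg.Agent.Q2.TC1
import Cfsg.Agent.Q2.TCF

/-!
S3617: the Frobenius kernel over `H = Ht T β γ = T_{βγ}`.

`ht_eq`: if `H` fixes `δ ≠ ε` then `H ≤ Ht T δ ε = cj(g, H)` (`two`, `cj_Ht`), equal orders.
`ker`: `M = 𝐍[H]` acts on `Δ = {δ // ∀ x ∈ H, x • δ = δ}` (define the `MulAction ↥M Δ`; `β, γ ∈ Δ`).
`Two ↥M Δ`: for `a ≠ b`, `c ≠ d` in `Δ` take `g ∈ X` with `g • a = c`, `g • b = d`; then
`cj(g, H) = cj(g, Ht T a b) = Ht T c d = H` (`ht_eq` twice), so `g ∈ M`.  `F = T.subgroupOf M` is normal; an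
element of `F` fixing `a ≠ b` in `Δ` lies in `Ht T a b = H`, so acts trivially on `Δ`.  `W = Wt T β`
centralises `T_β ≥ H`, so `W ≤ M ⊓ T`; `1 ≠ y ∈ W` fixes `β` (`Wt_fix`) and moves `γ` (`eq_of_fix`).
Apply `frob_reg`, `K` := image of its `K` under `M.subtype`.  For `x ∈ T ⊓ M`: `x` acts trivially on `Δ`
iff `x ∈ H` (it fixes `β, γ`).  This gives `HK`, `pw`, `reg`, `mv`; `WK` since `K ⊴ M ≥ W`;
`cop`: `y ∈ W`, `y ^ r = 1` ⇒ `y` acts trivially on `Δ`, fixes `γ ≠ β`, so `y = 1` (`eq_of_fix`);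
`IsCyclic W` from the last clause with `A = W.subgroupOf M` (`Wt_comm`, `subgroupOfEquivOfLe`).
-/

set_option autoImplicit false
set_option linter.unusedSectionVars false
set_option linter.unusedVariables false

namespace Cfsg.Agent.Q2

open Subgroup Cfsg Cfsg.Agent.PLocal.Amb
open scoped commutatorElement

open MulAction

variable {X Γ : Type*} [Group X] [Finite X] [MulAction X Γ] [Finite Γ] {T : Subgroup X}

namespace TT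

variable (h : TT Γ T) {β γ : Γ}
include h

theorem ht_eq (hne : β ≠ γ) {δ ε : Γ} (hne' : δ ≠ ε) (hδ : ∀ x ∈ Ht T β γ, x • δ = δ)
    (hε : ∀ x ∈ Ht T β γ, x • ε = ε) : Ht T δ ε = Ht T β γ := by
  obtain ⟨g, g1, g2⟩ := h.two β γ δ ε hne hne'
  refine (eq_of_le_of_card_ge (fun x hx => mem_Ht.2 ⟨(mem_Ht.1 hx).1, hδ x hx, hε x hx⟩) ?_).symm
  rw [← g1, ← g2, ← h.cj_Ht, card_cj]

theorem ker (hne : β ≠ γ) (hW : Wt T β ≠ ⊥) :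
    IsCyclic (Wt T β) ∧ ∃ (r : ℕ) (K : Subgroup X), Ker T β γ r K := by
  let Δ : SubMulAction ↥𝐍[Ht T β γ] Γ :=
    ⟨{δ | ∀ x ∈ Ht T β γ, x • δ = δ}, fun g δ hδ x hx => by
      have := hδ _ (inv_conj_mem_of_mem_normalizer g.2 hx)
      rw [mul_smul, mul_smul, inv_smul_eq_iff] at this
      exact this⟩
  have bΔ : β ∈ Δ := fun x hx => (mem_Ht.1 hx).2.1
  have cΔ : γ ∈ Δ := fun x hx => (mem_Ht.1 hx).2.2
  have e : ∀ a b : Δ, a ≠ b → Ht T a.1 b.1 = Ht T β γ := fun a b ab =>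
    h.ht_eq hne (Subtype.coe_ne_coe.2 ab) a.2 b.2
  have two : Two ↥𝐍[Ht T β γ] Δ := fun a b c d ab cd => by
    obtain ⟨g, g1, g2⟩ := h.two a b c d (Subtype.coe_ne_coe.2 ab) (Subtype.coe_ne_coe.2 cd)
    refine ⟨⟨g, mem_normalizer_of_cj_le (le_of_eq ?_)⟩, Subtype.ext g1, Subtype.ext g2⟩
    rw [← e a b ab, h.cj_Ht, g1, g2, e c d cd, e a b ab]
  have := h.nrm
  have wM : Wt T β ≤ 𝐍[Ht T β γ] := fun y hy =>
    centralizer_le_normalizer' _ fun t ht => hy.2 t ht.1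
  have tv : ∀ x : ↥𝐍[Ht T β γ], x.1 ∈ T → (∀ c : Δ, x • c = c) → x.1 ∈ Ht T β γ := fun x hx k =>
    mem_Ht.2 ⟨hx, congrArg Subtype.val (k ⟨β, bΔ⟩), congrArg Subtype.val (k ⟨γ, cΔ⟩)⟩
  have w1 : ∀ y ∈ Wt T β, y ∈ Ht T β γ → y = 1 := fun y hy k =>
    by_contra fun n => hne (h.eq_of_fix hy n (mem_Ht.1 k).2.2).symm
  obtain ⟨y, hy, y1⟩ := (Wt T β).bot_or_exists_ne_one.resolve_left hW
  obtain ⟨r, K, rp, nK, KF, k1, k2, k3, k4, k5, k6⟩ := frob_reg two (T.subgroupOf _)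
    (fun x hx a b ab ha hb c => Subtype.ext (c.2 x.1 ((e a b ab).le
      (mem_Ht.2 ⟨hx, congrArg Subtype.val ha, congrArg Subtype.val hb⟩))))
    (β := ⟨β, bΔ⟩) (γ := ⟨γ, cΔ⟩) (y := ⟨y, wM hy⟩) hy.1 (Subtype.ext (h.Wt_fix hy))
    fun q => hne (h.eq_of_fix hy y1 (congrArg Subtype.val q)).symm
  refine ⟨?_, r, K.map (Subgroup.subtype _), rp, fun x hx => ?_, ?_, map_subtype_le _, fun w hw => ?_, ?_, ?_, ?_,
    fun w hw q => w1 w hw (tv ⟨w, wM hw⟩ hw.1 (k5 _ hw.1 ⟨β, bΔ⟩ (Subtype.ext (h.Wt_fix hw)) fun c => ?_))⟩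
  · have := k6 ((Wt T β).subgroupOf _) (fun x hx => hx.1) (fun x hx => Subtype.ext (h.Wt_fix hx))
      (fun x hx z hz => Subtype.ext (h.Wt_comm β hx z.1 hz)) fun x hx k => Subtype.ext (w1 _ hx (tv x hx.1 k))
    exact isCyclic_of_surjective _ (subgroupOfEquivOfLe wM).surjective
  · exact ⟨⟨x, le_normalizer hx⟩, k1 _ (mem_Ht.1 hx).1 fun c => Subtype.ext (c.2 x hx), rfl⟩
  · rintro _ ⟨x, hx, rfl⟩
    exact KF hx
  · refine mem_normalizer_of_cj_le (cj_le_iff_forall.2 ?_)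
    rintro _ ⟨x, hx, rfl⟩
    exact ⟨_, nK.conj_mem x hx ⟨w, wM hw⟩, rfl⟩
  · rintro _ ⟨x, hx, rfl⟩
    exact tv (x ^ r) (pow_mem (KF hx) r) (k2 x hx)
  · obtain ⟨k, hk, q⟩ := k3 ⟨β, bΔ⟩ ⟨γ, cΔ⟩
    exact ⟨k, ⟨k, hk, rfl⟩, congrArg Subtype.val q⟩
  · rintro _ ⟨x, hx, rfl⟩ q
    exact tv x (KF hx) (k4 x hx ⟨β, bΔ⟩ (Subtype.ext q))
  · rw [show (⟨w, wM hw⟩ : ↥𝐍[Ht T β γ]) ^ r = 1 from Subtype.ext q, one_smul]

end TT

end Cfsg.Agent.Q2
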