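import Mathlib
import Cfsg.Agent.Q2.TC1
import Cfsg.Agent.Solv.Coprime2

/-!
S3617: the line through two points.  `H = Ht T β γ`, `W = Wt T β`, `K` as in `Ker`, `K₁ = K ⊓ 𝐂[H]`.
Note `H ≤ T_β`, so `W ≤ 𝐂[H]` and `H ≤ 𝐂[W]`.

`mv1`: take `1 ≠ a ∈ W` (`hW`). For `k ∈ K`, `c k = k a k⁻¹ a⁻¹ ∈ K₁` (`k a k⁻¹ ∈ 𝐂[H]` as `k ∈ 𝐍[H]`;
`a k⁻¹ a⁻¹ ∈ K` by `WK`).  `O = {δ // ∃ k ∈ K, k • β = δ}` is finite; choose `k_δ`, `f δ = c k_δ • β ∈ O`,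
`= k a k⁻¹ • β` (`a⁻¹` fixes `β`).  `f` is injective: if `k a k⁻¹ • β = l a l⁻¹ • β` then
`η = l a⁻¹ l⁻¹ k a k⁻¹ = l * (a⁻¹ (l⁻¹ k) a) * k⁻¹ ∈ K` fixes `β`, so `η ∈ H` (`reg`); with `m = l⁻¹ k ∈ K`,
`a⁻¹ m a = (l⁻¹ η l) m`, `l⁻¹ η l ∈ H`, and `H` fixes `m • β` (`m⁻¹ H m = H`); apply to `β`:
`a⁻¹ • m • β = m • β`, so `m • β = β` (`eq_of_fix`), i.e. `k • β = l • β`.  So `f` is onto
(`Finite.surjective_of_injective`), and `γ ∈ O` (`mv`).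
`line`: `Z₁ = K₁ ⊓ H` is central in `K₁` and `x ^ r ∈ Z₁` for `x ∈ K₁`.  Let `Q` be a Sylow `r`-subgroup
of `K₁` (`IsSyl r Q K₁`).  Every `x ∈ K₁` is `q z`, `q ∈ Q`, `z ∈ Z₁` (the image of `Q` in the `r`-group
`K₁/Z₁` is a Sylow subgroup, so everything; or: `Q ⊔ Z₁` has index prime to `r` and a power of `r`).
Hence `Q ⊴ K₁`, so `Q` is the only Sylow `r`-subgroup of `K₁`, and `A ≤ W ≤ 𝐍[K₁]` normalises `Q`.
By `mv1`, `k = q z ∈ K₁` with `k • β = γ`; `z ∈ H` fixes `β`, so `q • β = γ`.  For `x ∈ Q ≤ K`,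
`x ^ r ∈ H ≤ 𝐂[W]`.
-/

set_option autoImplicit false
set_option linter.unusedSectionVars false
set_option linter.unusedVariables false

namespace Cfsg.Agent.Q2

open Subgroup Cfsg Cfsg.Agent.PLocal.Amb
open scoped commutatorElement

open MulAction

variable {X Γ : Type*} [Group X] [Finite X] [MulAction X Γ] [Finite Γ] {T : Subgroup X}

namespace TT

variable (h : TT Γ T) {β γ : Γ} {r : ℕ} {K : Subgroup X}
include h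

theorem mv1 (hW : Wt T β ≠ ⊥) (k : Ker T β γ r K) :
    ∃ x ∈ K ⊓ 𝐂[Ht T β γ], x • β = γ := by
  obtain ⟨⟨a, ha⟩, a1⟩ := ne_bot_iff_exists_ne_one.1 hW
  have a1 : a ≠ 1 := fun e => a1 (Subtype.ext e)
  have aH : a ∈ 𝐂[Ht T β γ] := fun t ht => ha.2 t ht.1
  have m : ∀ x ∈ K, x * a * x⁻¹ * a⁻¹ ∈ K ⊓ 𝐂[Ht T β γ] := fun x hx => mem_inf.2
    ⟨by simpa only [mul_assoc] using mul_mem hx (conj_mem_of_mem_normalizer (k.WK ha) (inv_mem hx)),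
      mul_mem (conj_mem_of_mem_normalizer (normalizer_le_normalizer_centralizer _ (k.nH hx)) aH) (inv_mem aH)⟩
  choose c hc e using fun δ : {δ : Γ // ∃ x ∈ K, x • β = δ} => δ.2
  let f : {δ : Γ // ∃ x ∈ K, x • β = δ} → {δ : Γ // ∃ x ∈ K, x • β = δ} := fun δ => ⟨_, _, (m _ (hc δ)).1, rfl⟩
  have inj : Function.Injective f := fun δ ε hf => by
    have e1 : (c δ * a * (c δ)⁻¹ * a⁻¹) • β = (c ε * a * (c ε)⁻¹ * a⁻¹) • β := congrArg Subtype.val hf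
    refine Subtype.ext ?_
    rw [← e δ, ← e ε]
    have hx := hc δ
    have hl := hc ε
    generalize c δ = x at e1 hx
    generalize c ε = l at e1 hl
    have hη := k.reg _ (mul_mem (inv_mem (m l hl).1) (m x hx).1) (by rw [mul_smul, e1, inv_smul_smul])
    have c1 := aH _ hη
    have f1 := (mem_Ht.1 (inv_conj_mem_of_mem_normalizer (k.nH hx) hη)).2.1
    have e2 : a * (l⁻¹ * x) * (x⁻¹ * ((l * a * l⁻¹ * a⁻¹)⁻¹ * (x * a * x⁻¹ * a⁻¹)) * x) = l⁻¹ * x * a :=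
      calc _ = a * l⁻¹ * a⁻¹ * (a * ((l * a * l⁻¹ * a⁻¹)⁻¹ * (x * a * x⁻¹ * a⁻¹))) * x := by group
        _ = _ := by rw [← c1]; group
    have e3 : a • (l⁻¹ * x) • β = (l⁻¹ * x) • β := by
      rw [← mul_smul, ← f1, ← mul_smul, e2, f1, mul_smul, h.Wt_fix ha]
    exact inv_smul_eq_iff.1 ((mul_smul _ _ _).symm.trans (h.eq_of_fix ha a1 e3))
  obtain ⟨δ, hδ⟩ := Finite.surjective_of_injective inj ⟨γ, k.mv⟩
  exact ⟨_, m _ (hc δ), congrArg Subtype.val hδ⟩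

theorem line (hW : Wt T β ≠ ⊥) (k : Ker T β γ r K) :
    ∃ Q : Subgroup X, Q ≤ T ∧ IsPGroup r Q ∧ Wt T β ≤ 𝐍[Q] ∧ (∃ q ∈ Q, q • β = γ) ∧
      ∀ x ∈ Q, x ^ r ∈ 𝐂[Wt T β] := by
  haveI := Fact.mk k.rp
  obtain ⟨Q, hQ⟩ := exists_isSyl r (K ⊓ 𝐂[Ht T β γ])
  have e := hQ.sup_eq_of_pRes_le (N := K ⊓ 𝐂[Ht T β γ] ⊓ Ht T β γ) (pRes_le_of_pow fun g hg =>
    ⟨1, mem_inf.2 ⟨pow_mem hg _, by rw [pow_one]; exact k.pw g hg.1⟩⟩) inf_le_left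
  have zq : K ⊓ 𝐂[Ht T β γ] ⊓ Ht T β γ ≤ 𝐍[Q] :=
    (inf_le_right.trans (le_centralizer_iff.1 (hQ.le.trans inf_le_right))).trans (centralizer_le_normalizer' Q)
  have WH : Wt T β ≤ 𝐂[Ht T β γ] := fun a ha t ht => ha.2 t ht.1
  obtain ⟨x, hx, ex⟩ := h.mv1 hW k
  obtain ⟨z, hz, q, hq, rfl⟩ := (mem_sup_of_le_normalizer_right zq).1 (e.ge hx)
  refine ⟨Q, (hQ.le.trans inf_le_left).trans k.KT, hQ.pgrp, ?_, ⟨q, hq, MulAction.injective z ?_⟩,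
    fun x hx => le_centralizer_iff.1 WH (k.pw x (hQ.le hx).1)⟩
  · rw [← hQ.eq_pCoreOf (e.ge.trans (sup_le zq le_normalizer))]
    exact (le_normalizer_inf k.WK (WH.trans le_normalizer)).trans (normalizer_le_normalizer_pCoreOf r _)
  · exact ((mul_smul z q β).symm.trans ex).trans (mem_Ht.1 hz.2).2.2.symm

end TT

end Cfsg.Agent.Q2
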